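import Groth.Agent.AlgSpFT.OpenIdeal
import Groth.Agent.AlgSpFT.Sub
import Groth.Agent.ASp.ClosedFP
import Groth.Agent.ASp.Diag
import Groth.Agent.ASp.Morph

/-! Closed subspaces of quasi-compact quasi-separated spaces are limits of finitely presented ones. -/

set_option autoImplicit false
set_option linter.style.haveILetI false
set_option linter.unusedSectionVars false
set_option backward.isDefEq.respectTransparency false
set_option backward.isDefEq.respectTransparency.types false
set_option maxHeartbeats 800000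

universe u

open CategoryTheory Limits AlgebraicGeometry Opposite
open Groth.Agent.AlgSpQC

noncomputable section

namespace Groth.Agent.ASpLimFP

open _root_.AlgSp

variable {S : Scheme.{u}}

/-- A map whose composite with a monomorphism has a property stable under base change has it. -/
theorem repWith_of_comp_mono {P : MorphismProperty Scheme.{u}} {F G H : Sp S} {f : F ⟶ G} (m : G ⟶ H) [Mono m]
    (h : RepWith P (f ≫ m)) : RepWith P f := by
  refine ⟨ASp.representable_of_comp_mono m h.1, fun {a b} g fst snd sq => h.2 (g ≫ m) fst snd ?_⟩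
  refine IsPullback.of_isLimit' ⟨by rw [← Category.assoc, sq.w, Category.assoc]⟩ ?_
  exact PullbackCone.IsLimit.mk _
    (fun s => sq.lift s.fst s.snd ((cancel_mono m).1 (by simpa using s.condition)))
    (fun s => sq.lift_fst _ _ _) (fun s => sq.lift_snd _ _ _)
    (fun s l h1 h2 => sq.hom_ext (by simp [h1]) (by simp [h2]))

/-- A closed subspace with a finitely generated ideal on an affine atlas is of finite presentation. -/
theorem isFinitePresentationMor_of_fg {Y D : Sp S} {U : Over S} [IsAffine U.left] {p : (yon S).obj U ⟶ Y}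
    (hp : RepWith @Etale p) (hps : RepWith @Surjective p) {i : D ⟶ Y} (hi : RepWith @IsClosedImmersion i)
    {J : Ideal Γ(U.left, ⊤)} (hJ : J.FG) (hI : ASp.IsSubIdeal i p (Scheme.IdealSheafData.ofIdealTop J)) :
    IsFinitePresentationMor i := by
  refine ⟨?_, ASp.isQuasiCompactMor_of_repWith (ASp.repWith_mono (fun _ _ k hk => by
      haveI : IsClosedImmersion k := hk
      exact (inferInstance : QuasiCompact k)) hi),
    (ASp.isQuasiSeparatedMor_iff hi.1).2 (ASp.repWith_mono (fun _ _ k hk => by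
      haveI : IsClosedImmersion k := hk
      exact (inferInstance : QuasiSeparated k)) hi)⟩
  obtain ⟨fst, sq⟩ := hI
  refine ASp.locP_of_chart (ASp.repWith_of_isPullback sq.flip hp) (ASp.repWith_of_isPullback sq.flip hps) hp sq.w ?_
  haveI : IsClosedImmersion (ASp.subInc (Scheme.IdealSheafData.ofIdealTop J)).left :=
    inferInstanceAs (IsClosedImmersion (Scheme.IdealSheafData.ofIdealTop J).subschemeι)
  refine (ASp.lfp_iff_fg_of_isClosedImmersion _).2 ?_
  rw [← ASp.ker_top,
    show (ASp.subInc (Scheme.IdealSheafData.ofIdealTop J)).left.ker = Scheme.IdealSheafData.ofIdealTop J from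
      Scheme.IdealSheafData.ker_subschemeι _, Scheme.IdealSheafData.ofIdealTop_ideal]
  simpa using hJ

/-- A section of the ideal of a closed subspace lies in an invariant finitely generated smaller ideal. -/
theorem exists_fg_le [QuasiSeparatedSpace ↥S] (Y : AlgSp.Space S) (hqc : IsQuasiCompactSp Y.obj)
    (hqs : IsQuasiSeparatedSp Y.obj) {D : Sp S} {i : D ⟶ Y.obj} (hi : RepWith @IsClosedImmersion i)
    {U : Over S} [IsAffine U.left] {p : (yon S).obj U ⟶ Y.obj} (hp : RepWith @Etale p)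
    {I : U.left.IdealSheafData} (hI : ASp.IsSubIdeal i p I) (a : Γ(U.left, ⊤))
    (ha : a ∈ I.ideal ⟨⊤, isAffineOpen_top U.left⟩) :
    ∃ J : Ideal Γ(U.left, ⊤), J.FG ∧ ASp.IsInv p (Scheme.IdealSheafData.ofIdealTop J) ∧
      J ≤ I.ideal ⟨⊤, isAffineOpen_top U.left⟩ ∧ a ∈ J := by
  let I₁ := idealOfRep hi.1
  have hI₁ : I₁.IsQCoh := ASp.isQCoh_idealOfRep hi.1
    ((ASp.repWith_quasiCompact_iff hi.1).1 (ASp.repWith_mono (fun _ _ k hk => by
      haveI : IsClosedImmersion k := hk
      exact (inferInstance : QuasiCompact k)) hi))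
  have hu : QC (unitModEt Y.obj) := bc_unit (OEt Y.obj) (Aff Y.obj)
  let A := AlgSpFT.idealSub I₁ hI₁
  have hM : QC (A.toMod hu) := A.qc hu
  let E : EtOver Y.obj := EtOver.mk p hp
  have hE : Aff Y.obj E := (inferInstance : IsAffine U.left)
  have eI : I.ideal ⟨⊤, isAffineOpen_top U.left⟩ = I₁.ideal E hE :=
    ASp.ideal_top_of_isCutOutBy ⟨hi, rfl⟩ hE hp hI
  rw [eI] at ha ⊢
  let x : Sec (unitModEt Y.obj) E := upEquiv Y.obj E a
  have hx : x ∈ A.N E hE :=
    (congrArg (· ∈ I₁.ideal E hE) ((upEquiv Y.obj E).symm_apply_apply a)).mpr ha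
  let x' : Sec (A.toMod hu) E := ⟨x, (A.mem_iff hu hE _).2 hx⟩
  obtain ⟨B, hB, -, hR⟩ := AlgSpFT.exists_extension Y hqc hqs hM isOpen_empty isCompact_empty
    (AlgSpFT.emptyPSub hM) (fun _ _ _ => Submodule.fg_bot) [⟨⟨E, hE⟩, x'⟩]
    (fun r _ => AlgSpFT.mem_emptyPSub_ext hM r.2)
  let C := AlgSpFT.pushSub hu A B
  obtain ⟨Z, hZ, j, hj⟩ := ASp.exists_cutOut Y.property (AlgSpFT.ofSub_qcoh C)
  obtain ⟨J, hJ⟩ := ASp.exists_isSubIdeal hj.choose p
  have eJ : J.ideal ⟨⊤, isAffineOpen_top U.left⟩ = (AlgSpFT.ofSub C).ideal E hE :=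
    ASp.ideal_top_of_isCutOutBy hj hE hp hJ
  refine ⟨J.ideal ⟨⊤, isAffineOpen_top U.left⟩, ?_, ?_, ?_, ?_⟩
  · rw [eJ]
    exact AlgSpFT.ofSub_fg C hE (AlgSpFT.pushSub_fg hu A B hE (hB E hE))
  · rw [← ASp.eq_ofIdealTop_top]
    exact hJ.isInv hj.choose
  · rw [eJ]
    intro b hb
    have := AlgSpFT.pushSub_le hu A B hE hb
    exact (congrArg (· ∈ I₁.ideal E hE) ((upEquiv Y.obj E).symm_apply_apply b)).mp this
  · rw [eJ]
    exact Submodule.subset_span ⟨x', hR ⟨⟨E, hE⟩, x'⟩ (List.mem_singleton_self _), rfl⟩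

variable {Y : Sp S} {U : Over S} [IsAffine U.left] (p : (yon S).obj U ⟶ Y)

/-- The indices: finitely generated invariant ideals below a given one. -/
def Idx (I : U.left.IdealSheafData) : Type u :=
  {J : Ideal Γ(U.left, ⊤) // J.FG ∧ ASp.IsInv p (Scheme.IdealSheafData.ofIdealTop J) ∧
    J ≤ I.ideal ⟨⊤, isAffineOpen_top U.left⟩}

instance (I : U.left.IdealSheafData) : Preorder (Idx p I) :=
  inferInstanceAs (Preorder {J : Ideal Γ(U.left, ⊤) // J.FG ∧ ASp.IsInv p (Scheme.IdealSheafData.ofIdealTop J) ∧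
    J ≤ I.ideal ⟨⊤, isAffineOpen_top U.left⟩})

variable {p}

theorem ofIdealTop_sup (a b : Ideal Γ(U.left, ⊤)) : Scheme.IdealSheafData.ofIdealTop (a ⊔ b) =
    sSup {Scheme.IdealSheafData.ofIdealTop a, Scheme.IdealSheafData.ofIdealTop b} := by
  rw [sSup_pair]
  refine le_antisymm ?_ (sup_le (ASp.ofIdealTop_le_iff.2 le_sup_left) (ASp.ofIdealTop_le_iff.2 le_sup_right))
  rw [ASp.eq_ofIdealTop_top (Scheme.IdealSheafData.ofIdealTop a ⊔ _), ASp.ofIdealTop_le_iff, sup_le_iff]
  constructor
  · refine ASp.ofIdealTop_le_iff.1 ?_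
    rw [← ASp.eq_ofIdealTop_top]; exact le_sup_left
  · refine ASp.ofIdealTop_le_iff.1 ?_
    rw [← ASp.eq_ofIdealTop_top]; exact le_sup_right

instance (I : U.left.IdealSheafData) : Nonempty (Idx p I) := by
  refine ⟨⟨⊥, Submodule.fg_bot, ?_, bot_le⟩⟩
  have : Scheme.IdealSheafData.ofIdealTop (⊥ : Ideal Γ(U.left, ⊤)) = sSup ∅ := by
    rw [sSup_empty, ASp.eq_ofIdealTop_top (⊥ : U.left.IdealSheafData)]
    congr 1
  rw [this]
  exact ASp.isInv_sSup fun _ h => h.elim

instance (I : U.left.IdealSheafData) : IsDirected (Idx p I) (fun a b => a ≤ b) := by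
  refine ⟨fun a b => ⟨⟨a.1 ⊔ b.1, Submodule.FG.sup a.2.1 b.2.1, ?_, sup_le a.2.2.2 b.2.2.2⟩,
    (le_sup_left : a.1 ≤ a.1 ⊔ b.1), (le_sup_right : b.1 ≤ a.1 ⊔ b.1)⟩⟩
  rw [ofIdealTop_sup]
  refine ASp.isInv_sSup ?_
  rintro _ (rfl | rfl)
  exacts [a.2.2.1, b.2.2.1]

section System

variable (hY : IsAlgSpace Y) (hp : RepWith @Etale p) (hps : RepWith @Surjective p) (I : U.left.IdealSheafData)

/-- The closed subspace of an index. -/
def sub (J : Idx p I) : Sp S := (ASp.exists_sub_of_isInv hY hp hps J.2.2.1).choose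

/-- Its inclusion. -/
def inc (J : Idx p I) : sub hY hp hps I J ⟶ Y :=
  (ASp.exists_sub_of_isInv hY hp hps J.2.2.1).choose_spec.choose_spec.choose

theorem isAlgSpace_sub (J : Idx p I) : IsAlgSpace (sub hY hp hps I J) :=
  (ASp.exists_sub_of_isInv hY hp hps J.2.2.1).choose_spec.choose

theorem repWith_inc (J : Idx p I) : RepWith @IsClosedImmersion (inc hY hp hps I J) :=
  (ASp.exists_sub_of_isInv hY hp hps J.2.2.1).choose_spec.choose_spec.choose_spec.1

theorem isSubIdeal_inc (J : Idx p I) :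
    ASp.IsSubIdeal (inc hY hp hps I J) p (Scheme.IdealSheafData.ofIdealTop J.1) :=
  (ASp.exists_sub_of_isInv hY hp hps J.2.2.1).choose_spec.choose_spec.choose_spec.2

theorem mono_inc (J : Idx p I) : Mono (inc hY hp hps I J) :=
  ASp.mono_of_repWith (P := @IsClosedImmersion) (fun g (hg : IsClosedImmersion g) => inferInstance)
    (repWith_inc hY hp hps I J)

theorem exists_step {J J' : Idx p I} (h : J ≤ J') :
    ∃ k, k ≫ inc hY hp hps I J = inc hY hp hps I J' :=
  (ASp.exists_hom_iff_le hp hps (repWith_inc hY hp hps I J) (isSubIdeal_inc hY hp hps I J')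
    (isSubIdeal_inc hY hp hps I J)).2 (ASp.ofIdealTop_le_iff.2 h)

/-- The inverse system. -/
def sys : (Idx p I)ᵒᵖ ⥤ Sp S where
  obj J := sub hY hp hps I J.unop
  map φ := (exists_step hY hp hps I (leOfHom φ.unop)).choose
  map_id J := by
    haveI := mono_inc hY hp hps I J.unop
    refine (cancel_mono (inc hY hp hps I J.unop)).1 ?_
    rw [(exists_step hY hp hps I (leOfHom (𝟙 J).unop)).choose_spec, Category.id_comp]
  map_comp {J J' J''} φ ψ := by
    haveI := mono_inc hY hp hps I J''.unop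
    refine (cancel_mono (inc hY hp hps I J''.unop)).1 ?_
    rw [(exists_step hY hp hps I (leOfHom (φ ≫ ψ).unop)).choose_spec, Category.assoc,
      (exists_step hY hp hps I (leOfHom ψ.unop)).choose_spec,
      (exists_step hY hp hps I (leOfHom φ.unop)).choose_spec]

/-- The inclusions of the system. -/
def sysInc : sys hY hp hps I ⟶ (Functor.const (Idx p I)ᵒᵖ).obj Y where
  app J := inc hY hp hps I J.unop
  naturality J J' φ := by
    refine Eq.trans ?_ (Category.comp_id _).symm
    exact (exists_step hY hp hps I (leOfHom φ.unop)).choose_spec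

theorem repWith_sys_map {J J' : (Idx p I)ᵒᵖ} (φ : J ⟶ J') :
    RepWith @IsClosedImmersion ((sys hY hp hps I).map φ) := by
  haveI := mono_inc hY hp hps I J'.unop
  refine repWith_of_comp_mono (inc hY hp hps I J'.unop) ?_
  rw [show (sys hY hp hps I).map φ ≫ inc hY hp hps I J'.unop = inc hY hp hps I J.unop from
    (exists_step hY hp hps I (leOfHom φ.unop)).choose_spec]
  exact repWith_inc hY hp hps I J.unop

variable {I} {D : Sp S} {i : D ⟶ Y} (hi : RepWith @IsClosedImmersion i) (hI : ASp.IsSubIdeal i p I)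

include hi hI in
theorem exists_proj (J : Idx p I) : ∃ k, k ≫ inc hY hp hps I J = i :=
  (ASp.exists_hom_iff_le hp hps (repWith_inc hY hp hps I J) hI (isSubIdeal_inc hY hp hps I J)).2 (by
    exact (ASp.ofIdealTop_le_iff.2 J.2.2.2).trans (ASp.eq_ofIdealTop_top I).ge)

/-- The cone of the closed subspace over the system. -/
def sysCone : Cone (sys hY hp hps I) where
  pt := D
  π :=
    { app := fun J => (exists_proj hY hp hps hi hI J.unop).choose
      naturality := fun J J' φ => by
        haveI := mono_inc hY hp hps I J'.unop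
        refine (cancel_mono (inc hY hp hps I J'.unop)).1 ?_
        refine Eq.trans ?_ (Category.assoc _ _ _).symm
        refine Eq.trans ?_ (congrArg (_ ≫ ·) (exists_step hY hp hps I (leOfHom φ.unop)).choose_spec).symm
        refine Eq.trans (Category.assoc _ _ _) ?_
        refine Eq.trans (Category.id_comp _) ?_
        exact (exists_proj hY hp hps hi hI J'.unop).choose_spec.trans
          (exists_proj hY hp hps hi hI J.unop).choose_spec.symm }

theorem sysCone_π_inc (J : (Idx p I)ᵒᵖ) :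
    (sysCone hY hp hps hi hI).π.app J ≫ inc hY hp hps I J.unop = i :=
  (exists_proj hY hp hps hi hI J.unop).choose_spec

include hi hI in
theorem exists_lift_of_cone (hsup : ∀ a ∈ I.ideal ⟨⊤, isAffineOpen_top U.left⟩, ∃ J : Idx p I, a ∈ J.1)
    {F : Sp S} (g : F ⟶ Y) (hg : ∀ J, ∃ k, k ≫ inc hY hp hps I J = g) : ∃ k, k ≫ i = g := by
  haveI : Mono i := ASp.mono_of_repWith (P := @IsClosedImmersion) (fun g (hg : IsClosedImmersion g) => inferInstance) hi
  haveI : Epi (pullback.fst g i) := ⟨fun {G} v w hvw => ASp.hom_ext_yon fun T x => by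
    obtain ⟨T', t, s, ht, hts, hs, -⟩ := ASp.exists_etale_cover hp hps (x ≫ g)
    haveI : Epi ((yon S).map t) :=
      ASp.epi_of_etale_surjective (ASp.repWith_yon_map ht) (ASp.repWith_yon_map hts)
    obtain ⟨k, hk⟩ := (ASp.exists_lift_iff_le_ker hi hI (x ≫ g) ((yon S).map t) hs.symm).2 (by
      rw [ASp.eq_ofIdealTop_top I, ASp.eq_ofIdealTop_top s.left.ker, ASp.ofIdealTop_le_iff]
      intro a ha
      obtain ⟨J, hJ⟩ := hsup a ha
      obtain ⟨l, hl⟩ := hg J
      have hle := (ASp.exists_lift_iff_le_ker (repWith_inc hY hp hps I J) (isSubIdeal_inc hY hp hps I J) (x ≫ g)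
        ((yon S).map t) hs.symm).1 ⟨x ≫ l, by rw [Category.assoc, hl]⟩
      rw [ASp.eq_ofIdealTop_top s.left.ker, ASp.ofIdealTop_le_iff] at hle
      exact hle hJ)
    rw [← pullback.lift_fst (f := g) (g := i) x k hk.symm, Category.assoc, Category.assoc, hvw]⟩
  haveI : IsIso (pullback.fst g i) := isIso_of_mono_of_epi _
  exact ⟨inv (pullback.fst g i) ≫ pullback.snd g i, by
    rw [Category.assoc, ← pullback.condition, IsIso.inv_hom_id_assoc]⟩

/-- The cone is a limit. -/
def isLimitSysCone (hsup : ∀ a ∈ I.ideal ⟨⊤, isAffineOpen_top U.left⟩, ∃ J : Idx p I, a ∈ J.1) :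
    IsLimit (sysCone hY hp hps hi hI) :=
  have key : ∀ s : Cone (sys hY hp hps I), ∃ k : s.pt ⟶ D, ∀ J,
      k ≫ (sysCone hY hp hps hi hI).π.app J = s.π.app J := fun s => by
    obtain ⟨J₀⟩ := (inferInstance : Nonempty (Idx p I))
    have hgJ : ∀ J, s.π.app (op J) ≫ inc hY hp hps I J = s.π.app (op J₀) ≫ inc hY hp hps I J₀ := fun J => by
      obtain ⟨K, h₁, h₂⟩ := directed_of (fun a b : Idx p I => a ≤ b) J J₀
      have e : ∀ J₁ (h : J₁ ≤ K), s.π.app (op K) ≫ inc hY hp hps I K = s.π.app (op J₁) ≫ inc hY hp hps I J₁ :=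
        fun J₁ h => by
        have w := s.w (j := op K) (j' := op J₁) (homOfLE h).op
        rw [← w]
        exact ((Category.assoc _ _ _).trans (congrArg (_ ≫ ·) (exists_step hY hp hps I h).choose_spec)).symm
      exact (e J h₁).symm.trans (e J₀ h₂)
    obtain ⟨k, hk⟩ := exists_lift_of_cone hY hp hps hi hI hsup _ fun J => ⟨s.π.app (op J), hgJ J⟩
    refine ⟨k, fun J => ?_⟩
    haveI := mono_inc hY hp hps I J.unop
    refine (cancel_mono (inc hY hp hps I J.unop)).1 ?_
    refine ((Category.assoc _ _ _).trans (congrArg (k ≫ ·) (sysCone_π_inc hY hp hps hi hI J))).trans ?_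
    exact hk.trans (hgJ J.unop).symm
  { lift := fun s => (key s).choose
    fac := fun s J => (key s).choose_spec J
    uniq := fun s m hm => by
      obtain ⟨J₀⟩ := (inferInstance : Nonempty (Idx p I))
      haveI : Mono i := ASp.mono_of_repWith (P := @IsClosedImmersion) (fun g (hg : IsClosedImmersion g) => inferInstance) hi
      refine (cancel_mono i).1 ?_
      have h1 := congrArg (· ≫ inc hY hp hps I J₀) ((hm (op J₀)).trans ((key s).choose_spec (op J₀)).symm)
      have e := sysCone_π_inc hY hp hps hi hI (op J₀)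
      exact (congrArg (m ≫ ·) e).symm.trans (((Category.assoc _ _ _).symm.trans h1).trans
        ((Category.assoc _ _ _).trans (congrArg ((key s).choose ≫ ·) e))) }

end System

end Groth.Agent.ASpLimFP

end
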