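import Groth.Agent.InvExt.Compl
import Groth.Agent.RegLocal.UFD
import Groth.Agent.S0558
import Groth.Agent.ASp.RedSub
import Groth.Agent.ASp.EtStalkSH
import Groth.Agent.ASp.EtSupport
import Groth.Agent.ASp.SepAffine
import Groth.Agent.ASp.NoethFibre
import Groth.Agent.ASp.Morph

/-! Complements of dense affine opens in regular separated spaces are effective Cartier. -/

set_option autoImplicit false
set_option linter.style.haveILetI false
set_option linter.unusedSectionVars false
set_option backward.isDefEq.respectTransparency false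
set_option backward.isDefEq.respectTransparency.types false
set_option backward.defeqAttrib.useBackward true
set_option maxHeartbeats 800000

universe u

open CategoryTheory Limits AlgebraicGeometry TopologicalSpace Opposite
open Groth.Agent.InvExt

noncomputable section

namespace Groth.Agent.ASpLimFP

variable {X : Scheme.{u}}

/-- The reduced ideal of the complement of a dense affine open with factorial local rings. -/
theorem isEffCartierIdeal_compl [IsLocallyNoetherian X] (U : X.Opens) (hU : IsAffineOpen U)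
    (hdense : Dense (U : Set X)) (hΔ : ∀ V W : X.Opens, IsAffineOpen V → IsAffineOpen W → IsAffineOpen (V ⊓ W))
    (hufd : ∀ x : X, x ∉ U → IsDomain (X.presheaf.stalk x) ∧ UniqueFactorizationMonoid (X.presheaf.stalk x)) :
    BlowUp.IsEffCartierIdeal (Scheme.IdealSheafData.vanishingIdeal (⟨(U : Set X)ᶜ, U.2.isClosed_compl⟩ : Closeds X)) := by
  let T : Closeds X := ⟨(U : Set X)ᶜ, U.2.isClosed_compl⟩
  let 𝓘 := Scheme.IdealSheafData.vanishingIdeal T
  have hsupp : (𝓘.support : Set X) = (U : Set X)ᶜ := by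
    exact Scheme.IdealSheafData.coe_support_vanishingIdeal T
  intro x
  by_cases hx : x ∈ 𝓘.support
  swap
  · exact exists_cartier_nhd_of_not_mem hx
  have hxU : x ∉ U := by rw [← SetLike.mem_coe, hsupp] at hx; exact hx
  obtain ⟨_, _⟩ := hufd x hxU
  refine exists_cartier_nhd 𝓘 x (fun W hxW hint hbot => ?_) (fun W hxW hint a ha q hq hqx hcol => ?_)
  · obtain ⟨y, hyW, hyU⟩ := hdense.inter_open_nonempty _ W.1.2 ⟨x, hxW⟩
    have hyS : y ∈ (𝓘.support : Set X) := (mem_support_iff_le W y hyW).2 (hbot ▸ bot_le)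
    rw [hsupp] at hyS
    exact hyS hyU
  · haveI : IsNoetherianRing Γ(X, W.1) := IsLocallyNoetherian.component_noetherian W
    have hI : ∀ (z : X) (hz : z ∈ W.1), z ∉ U ↔ 𝓘.ideal W ≤ (W.2.primeIdealOf ⟨z, hz⟩).asIdeal := fun z hz => by
      rw [← mem_support_iff_le W z hz, ← SetLike.mem_coe (x := z) (p := 𝓘.support), hsupp]
      rfl
    have hrad : (𝓘.ideal W).radical ≤ 𝓘.ideal W := by
      intro r hr
      obtain ⟨n, hn⟩ := hr
      rw [Scheme.IdealSheafData.vanishingIdeal_ideal, PrimeSpectrum.mem_vanishingIdeal] at hn ⊢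
      exact fun p hp => p.isPrime.mem_of_pow_mem n (hn p hp)
    have haQ : a ∉ (W.2.primeIdealOf ⟨q, hq⟩).asIdeal := fun haQ =>
      ha (hrad ⟨2, by rw [pow_two]; exact (hcol a).2 haQ⟩)
    have hqU : q ∉ U := (hI q hq).2 fun r hr => (hcol r).1 (Ideal.mul_mem_right _ _ hr)
    have hminQ : ∀ (z : X) (hz : z ∈ W.1), z ∉ U →
        (W.2.primeIdealOf ⟨z, hz⟩).asIdeal ≤ (W.2.primeIdealOf ⟨q, hq⟩).asIdeal →
        (W.2.primeIdealOf ⟨z, hz⟩).asIdeal = (W.2.primeIdealOf ⟨q, hq⟩).asIdeal := by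
      intro z hz hzU hle
      refine le_antisymm hle fun r hr => ?_
      have h1 : r * a ∈ (W.2.primeIdealOf ⟨z, hz⟩).asIdeal := (hI z hz).1 hzU ((hcol r).2 hr)
      exact ((inferInstance : (W.2.primeIdealOf ⟨z, hz⟩).asIdeal.IsPrime).mem_or_mem h1).resolve_right fun h => haQ (hle h)
    have hWU : IsAffineOpen (W.2.fromSpec ⁻¹ᵁ (W.1 ⊓ U)) :=
      (hΔ W.1 U W.2 hU).preimage_of_isOpenImmersion W.2.fromSpec (by
        rw [W.2.opensRange_fromSpec]
        exact inf_le_left)
    have hht := height_le_one_of_compl_affine Γ(X, W.1) (W.2.fromSpec ⁻¹ᵁ (W.1 ⊓ U)) hWU (W.2.primeIdealOf ⟨q, hq⟩)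
      (fun h => by
        rw [Scheme.Hom.mem_preimage, W.2.fromSpec_primeIdealOf] at h
        exact hqU h.2)
      (fun P hP hPU => by
        obtain ⟨z, hz, hzP⟩ := exists_point_primeIdealOf W.2 P.asIdeal P.isPrime
        obtain rfl : W.2.primeIdealOf ⟨z, hz⟩ = P := PrimeSpectrum.ext hzP
        have hzU : z ∉ U := fun h => hPU (by
          rw [Scheme.Hom.mem_preimage, W.2.fromSpec_primeIdealOf]
          exact ⟨hz, h⟩)
        exact PrimeSpectrum.ext (hminQ z hz hzU hP))
    obtain ⟨_, _⟩ := hufd q hqU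
    letI : Algebra Γ(X, W.1) (X.presheaf.stalk q) := TopCat.Presheaf.algebra_section_stalk X.presheaf ⟨q, hq⟩
    haveI := W.2.isLocalization_stalk ⟨q, hq⟩
    haveI := isPrincipalIdealRing_of_dim_le_one (X.presheaf.stalk q) (by
      rw [IsLocalization.AtPrime.ringKrullDim_eq_height (W.2.primeIdealOf ⟨q, hq⟩).asIdeal (X.presheaf.stalk q)]
      exact_mod_cast hht)
    exact principalAt_of_isPrincipal_loc _ _ (X.presheaf.stalk q) (IsPrincipalIdealRing.principal _)

open _root_.AlgSp

variable {S : Scheme.{u}}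

/-- A closed subspace pulling back to the reduced complement on a chart. -/
theorem exists_closedSubspace_vanishing {X : Sp S} (hX : IsAlgSpace X) {U : Over S}
    (p : (yon S).obj U ⟶ X) (hp : RepWith @Etale p) (hps : RepWith @Surjective p)
    {T : Set (Points X)} (hT : IsClosed T) :
    ∃ (Z : Sp S) (i : Z ⟶ X) (fst : (yon S).obj
        (Over.mk ((Scheme.IdealSheafData.vanishingIdeal (⟨Points.ofPt p ⁻¹' T, hT.preimage (Points.continuous_ofPt p)⟩ : Closeds U.left)).subschemeι ≫ U.hom)) ⟶ Z),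
      IsAlgSpace Z ∧ RepWith @IsClosedImmersion i ∧ Set.range (Points.map i) = T ∧
      IsPullback fst ((yon S).map (Over.homMk (Scheme.IdealSheafData.vanishingIdeal (⟨Points.ofPt p ⁻¹' T, hT.preimage (Points.continuous_ofPt p)⟩ : Closeds U.left)).subschemeι rfl :
        Over.mk ((Scheme.IdealSheafData.vanishingIdeal (⟨Points.ofPt p ⁻¹' T, hT.preimage (Points.continuous_ofPt p)⟩ : Closeds U.left)).subschemeι ≫ U.hom) ⟶ U)) i p := by
  let C : Closeds U.left := ⟨Points.ofPt p ⁻¹' T, hT.preimage (Points.continuous_ofPt p)⟩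
  let I := Scheme.IdealSheafData.vanishingIdeal C
  haveI : IsReduced I.subscheme := DVRCrit.isReduced_vanishingIdeal C
  let Z₀ : Over S := Over.mk (I.subschemeι ≫ U.hom)
  let j : Z₀ ⟶ U := Over.homMk I.subschemeι rfl
  have hjc : IsClosedImmersion j.left := inferInstanceAs (IsClosedImmersion I.subschemeι)
  have hr : Set.range j.left = (C : Set U.left) := by
    change Set.range I.subschemeι = _
    rw [Scheme.IdealSheafData.range_subschemeι, Scheme.IdealSheafData.coe_support_vanishingIdeal]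
  obtain ⟨R, pr₁, pr₂, hR⟩ := ASp.exists_isPullback_yon hp.1 p
  have hV : IsPullback (pullback.fst j pr₁) (pullback.snd j pr₁) j pr₁ := IsPullback.of_hasPullback _ _
  have hbig : IsPullback ((yon S).map (pullback.fst j pr₁)) ((yon S).map (pullback.snd j pr₁ ≫ pr₂))
      ((yon S).map j ≫ p) p := by
    rw [Functor.map_comp]
    exact ((ASp.isPullback_yon_map hV).flip.paste_horiz hR.flip).flip
  haveI : Etale pr₁.left := hp.2 p _ pr₁ hR.flip
  haveI : Etale (pullback.fst j pr₁).left :=
    MorphismProperty.of_isPullback (P := @Etale) (ASp.isPullback_left hV).flip ‹_›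
  haveI : IsReduced Z₀.left := inferInstanceAs (IsReduced I.subscheme)
  haveI : IsReduced (pullback j pr₁).left := ASp.isReduced_of_etale (pullback.fst j pr₁).left
  haveI := hjc
  obtain ⟨Z, i, e, hZ, hi, hsq, hee, hes⟩ := ASp.exists_closedSubspace_of_invariant hX p hp hps j hjc
    ⟨_, _, _, hbig, ASp.exists_lift_of_range_subset j _ (by
      rintro _ ⟨v, rfl⟩
      rw [hr]
      change Points.ofPt p _ ∈ T
      rw [← ASp.ofPt_yon_map_comp, ← hbig.w, ← Category.assoc, ← Functor.map_comp, ASp.ofPt_yon_map_comp]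
      refine (show _ ∈ (C : Set U.left) from hr.le ⟨(pullback.fst j pr₁).left v, ?_⟩)
      rw [Over.comp_left, Scheme.Hom.comp_apply])⟩
  refine ⟨Z, i, e, hZ, hi, ?_, hsq⟩
  apply subset_antisymm
  · rintro _ ⟨z, rfl⟩
    obtain ⟨v, rfl⟩ := ASp.surjective_ofPt hes z
    rw [Points.map_ofPt, hsq.w, ASp.ofPt_yon_map_comp]
    exact hr.le ⟨v, rfl⟩
  · intro x hx
    obtain ⟨u, rfl⟩ := ASp.surjective_ofPt hps x
    obtain ⟨v, hv⟩ := hr.ge (show u ∈ (C : Set U.left) from hx)
    exact ⟨Points.ofPt e v, by rw [Points.map_ofPt, hsq.w, ASp.ofPt_yon_map_comp, hv]⟩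

theorem isOpenMap_ofPt' {X : Sp S} {T : Over S} {a : (yon S).obj T ⟶ X} (ha : RepWith @Etale a) :
    IsOpenMap (Points.ofPt a) := by
  have : Points.ofPt a = fun t => Points.map a (Points.schemeHomeo T t) := funext fun t => Points.ofPt_eq_map_ofScheme a t
  rw [this]
  exact (ASp.isOpenMap_map_of_etale ha).comp (Points.schemeHomeo T).isOpenMap

theorem exists_effCartier_compl_space [S.IsSeparated] {X : Sp S} (hX : IsAlgSpace X)
    (hreg : EtaleLocally (fun U => IsLocallyNoetherian U ∧ ∀ u : ↥U, IsRegularLocalRing ↥(U.presheaf.stalk u)) X)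
    (hqc : IsQuasiCompactSp X) (hsep : IsSeparatedSp X)
    (T : Over S) [IsAffine T.left] (j : (yon S).obj T ⟶ X) (hj : RepWith @IsOpenImmersion j)
    (hdense : Dense (Set.range (Points.ofPt j))) :
    ∃ (D : Sp S) (i : D ⟶ X), IsAlgSpace D ∧ IsEffCartierSub i ∧
      Set.range (Points.map i) = (Set.range (Points.ofPt j))ᶜ := by
  haveI := ASp.compactSpace_of_isQuasiCompactSp hqc
  obtain ⟨U, p, hU, hp, hps⟩ := ASp.exists_affine_chart hX
  haveI := hU
  obtain ⟨U₀, p₀, hp₀, hps₀, hN₀, hR₀⟩ := hreg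
  haveI : IsLocallyNoetherian U.left :=
    ASp.isLocallyNoetherian_of_chart (P := X) ⟨U₀, p₀, hp₀, hps₀, hN₀⟩ hp
  have hreg' : ∀ u : U.left, IsRegularLocalRing (U.left.presheaf.stalk u) := fun u => by
    obtain ⟨q, hq, l, hl⟩ := ASp.exists_geometric_lift (EtOver.mk p hp) u
    have hu : Points.ofPt p u = Points.mk q := by
      rw [← hl]
      exact (ASp.mk_eq_ofPt l).symm
    obtain ⟨u₀, hu₀⟩ := ASp.surjective_ofPt hps₀ (Points.mk q)
    exact (ASp.stalk_isRegular_iff hX hq hp hu).1 ((ASp.stalk_isRegular_iff hX hq hp₀ hu₀).2 (hR₀ u₀))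
  obtain ⟨P, fst, snd, sq⟩ := ASp.exists_isPullback_yon (hX.representable_from_yon p) j
  have hPsnd : IsOpenImmersion fst.left := hj.2 p _ fst sq.flip
  haveI : IsAffine P.left := by
    have hd := ASp.isPullback_diag_pair sq
    haveI : IsClosedImmersion (prod.lift fst snd).left := hsep.2 _ _ _ hd
    haveI : IsAffine (U ⨯ T).left := by
      haveI : IsAffineHom (T.hom ≫ terminal.from S) := inferInstance
      haveI : IsAffineHom T.hom := IsAffineHom.of_comp T.hom (terminal.from S)
      haveI : IsAffine (pullback U.hom T.hom) := isAffine_of_isAffineHom (pullback.fst U.hom T.hom)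
      exact .of_isIso (Over.prodLeftIsoPullback U T).hom
    exact isAffine_of_isAffineHom (prod.lift fst snd).left
  let W : U.left.Opens := fst.left.opensRange
  have hW : IsAffineOpen W := isAffineOpen_opensRange fst.left
  have hWeq : (W : Set U.left) = Points.ofPt p ⁻¹' Set.range (Points.ofPt j) := by
    ext u
    constructor
    · rintro ⟨z, rfl⟩
      exact ⟨snd.left z, by rw [← ASp.ofPt_yon_map_comp, ← sq.w, ASp.ofPt_yon_map_comp]⟩
    · rintro ⟨t, ht⟩
      obtain ⟨z, hz, -⟩ := (ASp.ofPt_eq_ofPt_iff sq u t).1 ht.symm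
      exact ⟨z, hz⟩
  have hTc : IsClosed (Set.range (Points.ofPt j))ᶜ := by
    rw [isClosed_compl_iff]
    exact (isOpenMap_ofPt' (ASp.repWith_mono (fun _ _ m (hm : IsOpenImmersion m) => inferInstanceAs (Etale m)) hj)).isOpen_range
  obtain ⟨D, i, e, hD, hi, hr, hsq⟩ := exists_closedSubspace_vanishing hX p hp hps hTc
  refine ⟨D, i, hD, ⟨hi, U, p, _, e, hp, hps, hsq, ?_⟩, hr⟩
  have hC : (⟨Points.ofPt p ⁻¹' (Set.range (Points.ofPt j))ᶜ, hTc.preimage (Points.continuous_ofPt p)⟩ : Closeds U.left) =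
      ⟨(W : Set U.left)ᶜ, W.2.isClosed_compl⟩ := TopologicalSpace.Closeds.ext (by
    show Points.ofPt p ⁻¹' (Set.range (Points.ofPt j))ᶜ = (W : Set U.left)ᶜ
    rw [hWeq]; rfl)
  rw [hC]
  refine isEffCartierIdeal_compl W hW ?_ (fun A B hA hB => hA.inf hB) fun u _ => ?_
  · rw [hWeq]
    exact hdense.preimage (isOpenMap_ofPt' hp)
  · haveI := hreg' u
    haveI := Groth.Agent.S0558.result (U.left.presheaf.stalk u)
    exact ⟨inferInstance, RegLocal.ufd _⟩

end Groth.Agent.ASpLimFP

end
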