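import Groth.Agent.ASpLimFP.MaxIdeal
import Groth.Agent.ASp.AffineLimRel
import Groth.Agent.ASp.CutOut
import Groth.Agent.ASp.LimFrame
import Groth.Agent.ASp.TopFpqc

/-! A closed subspace of a limit is the limit of its scheme theoretic images. -/

set_option autoImplicit false
set_option linter.style.haveILetI false
set_option linter.unusedSectionVars false
set_option backward.isDefEq.respectTransparency false
set_option backward.isDefEq.respectTransparency.types false
set_option maxHeartbeats 800000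

universe u

open CategoryTheory Limits AlgebraicGeometry Opposite

noncomputable section

namespace Groth.Agent.ASpLimFP

open _root_.AlgSp

attribute [local instance] CategoryTheory.isConnected_of_hasTerminal

variable {S : Scheme.{u}}

theorem exists_lift_local {F Y Z : Sp S} (i : Z ⟶ Y) [Mono i] (g : F ⟶ Y)
    (h : ∀ (T : Over S) (x : (yon S).obj T ⟶ F), ∃ k, k ≫ i = x ≫ g) : ∃ k, k ≫ i = g := by
  haveI : Epi (pullback.fst g i) := ⟨fun {G} v w hvw => ASp.hom_ext_yon fun T x => by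
    obtain ⟨k, hk⟩ := h T x
    rw [← pullback.lift_fst (f := g) (g := i) x k hk.symm, Category.assoc, Category.assoc, hvw]⟩
  haveI : IsIso (pullback.fst g i) := isIso_of_mono_of_epi _
  exact ⟨inv (pullback.fst g i) ≫ pullback.snd g i, by
    rw [Category.assoc, ← pullback.condition, IsIso.inv_hom_id_assoc]⟩

/-- A map into the limit factors through a closed subspace if all projections factor through its images. -/
theorem exists_lift_of_images {K : Type u} [SmallCategory K] [IsCofiltered K] (P : K ⥤ Sp S)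
    (hP : ∀ k, IsAlgSpace (P.obj k)) (hPa : ∀ k l (φ : k ⟶ l), IsAffineMor (P.map φ))
    (c : Cone P) (hc : IsLimit c) (o : K) {V : Over S} [IsAffine V.left] {v : (yon S).obj V ⟶ P.obj o}
    (hv : RepWith @Etale v) (hvs : RepWith @Surjective v)
    {X : Sp S} {e : X ⟶ c.pt} (he : RepWith @IsClosedImmersion e)
    {Z : K → Sp S} (hZ : ∀ l, IsAlgSpace (Z l)) (ε : ∀ l, Z l ⟶ P.obj l)
    (himg : ∀ l, IsSchImage (e ≫ c.π.app l) (ε l))
    {G : Sp S} (g : G ⟶ c.pt) (hg : ∀ l, ∃ z, z ≫ ε l = g ≫ c.π.app l) : ∃ k, k ≫ e = g := by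
  obtain ⟨F⟩ := ASp.exists_frame P hP hPa c hc o v
  haveI : ∀ {k l : CategoryTheory.Over o} (φ : k ⟶ l), IsAffineHom ((F.E ⋙ Over.forget S).map φ) :=
    fun φ => F.affine φ
  haveI : ∀ k, IsAffine ((F.E ⋙ Over.forget S).obj k) := fun k =>
    haveI := F.affine_w k
    isAffine_of_isAffineHom (F.w k).left
  haveI : IsAffine F.cone.pt.left := Scheme.isAffine_of_isLimit _ F.isLimit
  have hp : RepWith @Etale F.qLim := ASp.repWith_of_isPullback F.sqLim.flip hv
  have hps : RepWith @Surjective F.qLim := ASp.repWith_of_isPullback F.sqLim.flip hvs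
  obtain ⟨I, hI⟩ := ASp.exists_isSubIdeal he F.qLim
  haveI : Mono e := ASp.mono_of_repWith (P := @IsClosedImmersion) (fun g (_ : IsClosedImmersion g) => inferInstance) he
  refine exists_lift_local e g fun T x => ?_
  obtain ⟨T', t, s, ht, hts, hs, -⟩ := ASp.exists_etale_cover hp hps (x ≫ g)
  haveI : Epi ((yon S).map t) :=
    ASp.epi_of_etale_surjective (ASp.repWith_yon_map ht) (ASp.repWith_yon_map hts)
  refine (ASp.exists_lift_iff_le_ker he hI (x ≫ g) ((yon S).map t) hs.symm).2 ?_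
  rw [ASp.eq_ofIdealTop_top I, ASp.eq_ofIdealTop_top s.left.ker, ASp.ofIdealTop_le_iff]
  intro a ha
  rw [ASp.ker_top, RingHom.mem_ker]
  obtain ⟨k, b, rfl⟩ := exists_appTop_π_eq_of_isAffine_of_isLimit (F.E ⋙ Over.forget S)
    ((Over.forget S).mapCone F.cone) F.isLimit a
  obtain ⟨fst, sq⟩ := hI
  have sk : IsPullback F.qLim ((yon S).map (F.cone.π.app k)) (c.π.app k.left) (F.q k) :=
    IsPullback.of_bot (by rw [← Functor.map_comp, F.π_w, c.w]; exact F.sqLim) (F.qLim_π k) (F.sq k)
  have sE : IsPullback fst ((yon S).map (ASp.subInc I) ≫ (yon S).map (F.cone.π.app k)) (e ≫ c.π.app k.left)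
      (F.q k) := sq.paste_vert sk
  obtain ⟨hca, hπa⟩ := ASp.isAlgSpace_limit_and_isAffineMor P hP hPa c hc
  have hfq : RepWith @QuasiCompact (e ≫ c.π.app k.left) :=
    ASp.repWith_comp (ASp.repWith_mono (fun _ _ m hm => by
      haveI : IsClosedImmersion m := hm
      exact (inferInstance : QuasiCompact m)) he)
      (ASp.repWith_mono (fun _ _ m hm => by
        haveI : IsAffineHom m := hm
        exact (inferInstance : QuasiCompact m))
        (ASp.repWith_isAffineHom_of_isAffineMor hca (hP _) (hπa _)))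
  have hcut := (ASp.isSchImage_iff_isCutOutBy (hP _) hfq.1 (ASp.isQuasiCompactMor_of_repWith hfq) (hZ _) _).1
    (himg k.left)
  have hq : RepWith @Etale (F.q k) := ASp.repWith_of_isPullback (F.sq k).flip hv
  obtain ⟨J, hJ⟩ := ASp.exists_isSubIdeal hcut.choose (F.q k)
  let E : EtOver (P.obj k.left) := EtOver.mk (F.q k) hq
  have hE : IsAffine E.obj.left.left := inferInstanceAs (IsAffine ((F.E ⋙ Over.forget S).obj k))
  haveI : IsAffine (F.E.obj k).left := inferInstanceAs (IsAffine ((F.E ⋙ Over.forget S).obj k))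
  have eJ : J.ideal ⟨⊤, isAffineOpen_top (F.E.obj k).left⟩ = (idealOfRep hfq.1).ideal E hE :=
    ASp.ideal_top_of_isCutOutBy hcut hE hq hJ
  have hb0 : (ASp.subInc I).left.appTop ((F.cone.π.app k).left.appTop b) = 0 := by
    haveI : IsClosedImmersion (ASp.subInc I).left := inferInstanceAs (IsClosedImmersion I.subschemeι)
    have h1 : (ASp.subInc I).left.ker = I := Scheme.IdealSheafData.ker_subschemeι I
    have : (F.cone.π.app k).left.appTop b ∈ RingHom.ker (ASp.subInc I).left.appTop.hom := by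
      rw [← ASp.ker_top, h1]
      exact ha
    exact this
  have hbJ : b ∈ J.ideal ⟨⊤, isAffineOpen_top (F.E.obj k).left⟩ := by
    haveI := hE
    rw [eJ, ASp.ideal_idealOfRep]
    haveI : QuasiCompact (EtOver.bcπ hfq.1 E).left := hfq.2 E.obj.hom _ _ (hfq.1.isPullback _)
    refine (ASp.ker_top (EtOver.bcπ hfq.1 E).left).ge ?_
    obtain ⟨l, hl⟩ := (yon S).map_surjective (sE.lift (hfq.1.fst E.obj.hom) ((yon S).map (EtOver.bcπ hfq.1 E))
      (hfq.1.w _))
    have hl' : l ≫ ASp.subInc I ≫ F.cone.π.app k = EtOver.bcπ hfq.1 E := (yon S).map_injective (by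
      rw [Functor.map_comp, Functor.map_comp, hl]
      exact sE.lift_snd _ _ _)
    rw [RingHom.mem_ker, ← hl', Over.comp_left, Over.comp_left, Scheme.Hom.comp_appTop, Scheme.Hom.comp_appTop]
    show l.left.appTop ((ASp.subInc I).left.appTop ((F.cone.π.app k).left.appTop b)) = 0
    rw [hb0, map_zero]
  obtain ⟨z, hz⟩ := hg k.left
  have hle := (ASp.exists_lift_iff_le_ker hcut.choose hJ ((yon S).map t ≫ x ≫ g ≫ c.π.app k.left) (𝟙 _)
    (w := s ≫ F.cone.π.app k) (by
      rw [Category.id_comp, Functor.map_comp, Category.assoc, ← F.qLim_π k]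
      exact (reassoc_of% hs.symm) (c.π.app k.left))).1 ⟨(yon S).map t ≫ x ≫ z, by simp [hz]⟩
  have := hle ⟨⊤, isAffineOpen_top (F.E.obj k).left⟩ hbJ
  rw [ASp.ker_top, RingHom.mem_ker, Over.comp_left, Scheme.Hom.comp_appTop] at this
  exact this

theorem exists_isLimit_of_images [QuasiSeparatedSpace ↥S] {I : Type u} [SmallCategory I] [IsCofiltered I]
    (D : I ⥤ Sp S) (hD : ∀ i, IsAlgSpace (D.obj i)) (hDa : ∀ (i j : I) (φ : i ⟶ j), IsAffineMor (D.map φ))
    (hqc : ∀ i, IsQuasiCompactSp (D.obj i)) (c : Cone D) (hc : IsLimit c)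
    {X : Sp S} (a : X ⟶ c.pt) (i : I) {W : Sp S} (hW : IsAlgSpace W) (w : W ⟶ D.obj i)
    (hw : IsQuasiCompactMor w) (b : X ⟶ W) (hb : b ≫ w = a ≫ c.π.app i)
    (hci : ∀ (P : Sp S) (fst : P ⟶ c.pt) (snd : P ⟶ W), IsPullback fst snd (c.π.app i) w →
      ∀ k : X ⟶ P, k ≫ fst = a → k ≫ snd = b → RepWith @IsClosedImmersion k)
    (DP : CategoryTheory.Over i ⥤ Sp S) (π₁ : DP ⟶ CategoryTheory.Over.forget i ⋙ D)
    (π₂ : DP ⟶ (Functor.const (CategoryTheory.Over i)).obj W)
    (hDP : ∀ i' : CategoryTheory.Over i, IsPullback (π₁.app i') (π₂.app i') (D.map i'.hom) w)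
    (DX : CategoryTheory.Over i ⥤ Sp S) (hDX : ∀ i', IsAlgSpace (DX.obj i')) (ε : DX ⟶ DP)
    (ξ : (Functor.const (CategoryTheory.Over i)).obj X ⟶ DX)
    (hξ : ∀ i' : CategoryTheory.Over i,
      ξ.app i' ≫ ε.app i' ≫ π₁.app i' = a ≫ c.π.app i'.left ∧ ξ.app i' ≫ ε.app i' ≫ π₂.app i' = b)
    (himg : ∀ i' : CategoryTheory.Over i, IsSchImage (ξ.app i' ≫ ε.app i') (ε.app i')) :
    Nonempty (IsLimit (Cone.mk X ξ)) := by
  let o : CategoryTheory.Over i := CategoryTheory.Over.mk (𝟙 i)
  let hci' : IsLimit (c.whisker (CategoryTheory.Over.forget i)) :=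
    (Functor.Initial.isLimitWhiskerEquiv (CategoryTheory.Over.forget i) c).symm hc
  have sq := IsPullback.of_hasPullback (c.π.app i) w
  let Q := pullback (c.π.app i) w
  let p₁ : Q ⟶ c.pt := pullback.fst _ _
  let p₂ : Q ⟶ W := pullback.snd _ _
  have hp : ∀ k : CategoryTheory.Over i, (p₁ ≫ c.π.app k.left) ≫ D.map k.hom = p₂ ≫ w := fun k => by
    rw [Category.assoc, c.w]; exact sq.w
  have hπ₂ : ∀ {k l : CategoryTheory.Over i} (φ : k ⟶ l), DP.map φ ≫ π₂.app l = π₂.app k := fun φ => by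
    simpa using π₂.naturality φ
  have hπ₁ : ∀ {k l : CategoryTheory.Over i} (φ : k ⟶ l), DP.map φ ≫ π₁.app l = π₁.app k ≫ D.map φ.left :=
    fun φ => π₁.naturality φ
  let cQ : Cone DP :=
    { pt := Q
      π :=
        { app := fun k => (hDP k).lift _ _ (hp k)
          naturality := fun k l φ => by
            refine (Category.id_comp _).trans ((hDP l).hom_ext ?_ ?_)
            · rw [(hDP l).lift_fst, Category.assoc, hπ₁, (hDP k).lift_fst_assoc, Category.assoc, c.w]
            · rw [(hDP l).lift_snd, Category.assoc, hπ₂, (hDP k).lift_snd] } }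
  have hsmap : ∀ (s : Cone DP) (k : CategoryTheory.Over i), s.π.app k ≫ π₂.app k = s.π.app o ≫ π₂.app o := fun s k => by
    rw [← s.w (CategoryTheory.Over.homMk k.hom (Category.comp_id _) : k ⟶ o), Category.assoc, hπ₂]
  let toc : Cone DP → Cone (CategoryTheory.Over.forget i ⋙ D) := fun s => ⟨s.pt, s.π ≫ π₁⟩
  have hcond : ∀ s : Cone DP, hci'.lift (toc s) ≫ c.π.app i = (s.π.app o ≫ π₂.app o) ≫ w := fun s => by
    have h1 : hci'.lift (toc s) ≫ c.π.app o.left = s.π.app o ≫ π₁.app o := hci'.fac (toc s) o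
    rw [Category.assoc, ← (hDP o).w, ← Category.assoc, ← h1, Category.assoc]
    simp [o]
  have hcQ : IsLimit cQ :=
    { lift := fun s => sq.lift _ _ (hcond s)
      fac := fun s k => by
        refine (hDP k).hom_ext ?_ ?_
        · refine (Category.assoc _ _ _).trans ((congrArg (_ ≫ ·) ((hDP k).lift_fst _ _ _)).trans ?_)
          rw [← Category.assoc, sq.lift_fst]
          exact hci'.fac (toc s) k
        · refine (Category.assoc _ _ _).trans ((congrArg (_ ≫ ·) ((hDP k).lift_snd _ _ _)).trans ?_)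
          exact (sq.lift_snd _ _ _).trans (hsmap s k).symm
      uniq := fun s m hm => by
        refine sq.hom_ext ?_ ?_
        · rw [sq.lift_fst]
          refine hci'.hom_ext fun k => ?_
          rw [hci'.fac (toc s) k]
          show (m ≫ p₁) ≫ c.π.app k.left = s.π.app k ≫ π₁.app k
          rw [← hm k, Category.assoc, Category.assoc]
          exact congrArg (m ≫ ·) ((hDP k).lift_fst _ _ (hp k)).symm
        · rw [sq.lift_snd]
          show m ≫ p₂ = s.π.app o ≫ π₂.app o
          rw [← hm o, Category.assoc]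
          exact congrArg (m ≫ ·) ((hDP o).lift_snd _ _ (hp o)).symm }
  have hDPa : ∀ k, IsAlgSpace (DP.obj k) := fun k =>
    ASp.isAlgSpace_of_isPullback (hD i).diag (hD _) hW (hDP k)
  have hDPf : ∀ k l (φ : k ⟶ l), IsAffineMor (DP.map φ) := fun k l φ => by
    have h2 : IsPullback (π₁.app k) (DP.map φ ≫ π₂.app l) (D.map φ.left ≫ D.map l.hom) w := by
      rw [hπ₂, ← D.map_comp, Over.w]; exact hDP k
    have h3 : IsPullback (π₁.app k) (DP.map φ) (D.map φ.left) (π₁.app l) :=
      IsPullback.of_bot h2 (hπ₁ φ).symm (hDP l)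
    exact ASp.isAffineMor_baseChange h3 (hDa _ _ _)
  haveI : CompactSpace (Points (DP.obj o)) := by
    refine ASp.compactSpace_of_isQuasiCompactSp ?_
    exact hw (hD _) (hqc o.left) _ _ _ (show IsPullback (π₂.app o) (π₁.app o) w (D.map o.hom) from (hDP o).flip)
  obtain ⟨V, v, hV, hv, hvs⟩ := ASp.exists_affine_chart (hDPa o)
  haveI := hV
  let e : X ⟶ Q := sq.lift a b hb.symm
  have he : RepWith @IsClosedImmersion e := hci Q _ _ sq e (sq.lift_fst _ _ _) (sq.lift_snd _ _ _)
  haveI : Mono e := ASp.mono_of_repWith (P := @IsClosedImmersion) (fun g (_ : IsClosedImmersion g) => inferInstance) he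
  have hεm : ∀ k, Mono (ε.app k) := fun k =>
    ASp.mono_of_repWith (P := @IsClosedImmersion) (fun g (_ : IsClosedImmersion g) => inferInstance) (himg k).1
  have heπ : ∀ k, e ≫ cQ.π.app k = ξ.app k ≫ ε.app k := fun k => by
    refine (hDP k).hom_ext ?_ ?_
    · rw [Category.assoc, Category.assoc, (hξ k).1]
      refine (congrArg (e ≫ ·) ((hDP k).lift_fst _ _ (hp k))).trans ?_
      exact (Category.assoc _ _ _).symm.trans (congrArg (· ≫ c.π.app k.left) (sq.lift_fst _ _ _))
    · rw [Category.assoc, Category.assoc, (hξ k).2]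
      exact (congrArg (e ≫ ·) ((hDP k).lift_snd _ _ (hp k))).trans (sq.lift_snd _ _ _)
  have key : ∀ s : Cone DX, ∃ m : s.pt ⟶ X, ∀ k, m ≫ ξ.app k = s.π.app k := fun s => by
    let s' : Cone DP := ⟨s.pt, s.π ≫ ε⟩
    obtain ⟨m, hm⟩ := exists_lift_of_images DP hDPa hDPf cQ hcQ o hv hvs he (fun k => hDX k) (fun k => ε.app k)
      (fun k => (congrArg (IsSchImage · (ε.app k)) (heπ k)).mpr (himg k)) (hcQ.lift s')
      (fun k => ⟨s.π.app k, (hcQ.fac s' k).symm⟩)
    refine ⟨m, fun k => ?_⟩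
    haveI := hεm k
    refine (cancel_mono (ε.app k)).1 ?_
    rw [Category.assoc, ← heπ k, reassoc_of% hm, hcQ.fac s' k]
    rfl
  refine ⟨{ lift := fun s => (key s).choose, fac := fun s k => (key s).choose_spec k, uniq := fun s m hm => ?_ }⟩
  refine (cancel_mono e).1 (hcQ.hom_ext fun k => ?_)
  rw [Category.assoc, Category.assoc, heπ k]
  exact (reassoc_of% (hm k)) (ε.app k) |>.trans ((reassoc_of% ((key s).choose_spec k)) (ε.app k)).symm

end Groth.Agent.ASpLimFP

end
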