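import Groth.Agent.ASpLimFP.ImageLim
import Groth.Agent.ASp.RelLPQcqs
import Groth.Agent.ASp.QSComp
import Groth.Agent.ASp.Diag

/-! Morphisms between systems of scheme theoretic images. -/

set_option autoImplicit false
set_option linter.style.haveILetI false
set_option linter.unusedSectionVars false
set_option backward.isDefEq.respectTransparency false
set_option backward.isDefEq.respectTransparency.types false
set_option maxHeartbeats 800000

universe u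

open CategoryTheory Limits AlgebraicGeometry Opposite

noncomputable section

namespace Groth.Agent.ASpLimFP

open _root_.AlgSp

variable {S : Scheme.{u}}

theorem isQuasiSeparatedMor_of_isPullback {F G F' G' : Sp S} {f : F ⟶ G} {g : G' ⟶ G} {p : F' ⟶ G'} {q : F' ⟶ F}
    (h : IsPullback q p f g) (hf : IsQuasiSeparatedMor f) : IsQuasiSeparatedMor p := by
  obtain ⟨s, hs, -⟩ := ASp.isPullback_diagonal_baseChange h
  exact ASp.repWith_of_isPullback hs hf

/-- The scheme theoretic image maps into every closed subspace through which the map factors after a map. -/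
theorem exists_lift_of_isSchImage {X Z P Z' P' : Sp S} {e : X ⟶ Z} {ε : Z ⟶ P} (h : IsSchImage (e ≫ ε) ε)
    (hZ : IsAlgSpace Z) (hZ' : IsAlgSpace Z') (hP' : IsAlgSpace P') {ε' : Z' ⟶ P'}
    (hε' : RepWith @IsClosedImmersion ε') (g : Z ⟶ P') (e' : X ⟶ Z') (w : e' ≫ ε' = e ≫ g) :
    ∃ m : Z ⟶ Z', m ≫ ε' = g := by
  haveI : Mono ε := ASp.mono_of_repWith (P := @IsClosedImmersion) (fun g (_ : IsClosedImmersion g) => inferInstance) h.1
  obtain ⟨m, hm⟩ := h.2.2 (pullback.fst g ε' ≫ ε) (ASp.isAlgSpace_pullback hP'.diag hZ hZ' g ε')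
    (ASp.repWith_comp (ASp.repWith_of_isPullback (IsPullback.of_hasPullback g ε').flip hε') h.1)
    ⟨pullback.lift e e' w.symm, pullback.lift_fst_assoc _ _ _ _⟩
  have : m ≫ pullback.fst g ε' = 𝟙 Z := (cancel_mono ε).1 (by rw [Category.assoc, hm, Category.id_comp])
  exact ⟨m ≫ pullback.snd g ε', by rw [Category.assoc, ← pullback.condition, ← Category.assoc, this, Category.id_comp]⟩

theorem exists_morphism_image_systems [QuasiSeparatedSpace ↥S] {I : Type u} [SmallCategory I] [IsCofiltered I]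
    (D : I ⥤ Sp S) (hD : ∀ i, IsAlgSpace (D.obj i)) (hDa : ∀ (i j : I) (φ : i ⟶ j), IsAffineMor (D.map φ))
    (hqc : ∀ i, IsQuasiCompactSp (D.obj i)) (hqs : ∀ i, IsQuasiSeparatedSp (D.obj i)) (c : Cone D) (hc : IsLimit c)
    {X Y : Sp S} (aX : X ⟶ c.pt) (aY : Y ⟶ c.pt) (f : X ⟶ Y) (hf : f ≫ aY = aX)
    (i₁ : I) {W : Sp S} (hW : IsAlgSpace W) (w : W ⟶ D.obj i₁) (hw : IsFinitePresentationMor w) (bX : X ⟶ W)
    (hbX : bX ≫ w = aX ≫ c.π.app i₁)
    (hciX : ∀ (P : Sp S) (fst : P ⟶ c.pt) (snd : P ⟶ W), IsPullback fst snd (c.π.app i₁) w →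
      ∀ k : X ⟶ P, k ≫ fst = aX → k ≫ snd = bX → RepWith @IsClosedImmersion k)
    (PX : CategoryTheory.Over i₁ ⥤ Sp S) (PXπ₁ : PX ⟶ CategoryTheory.Over.forget i₁ ⋙ D)
    (PXπ₂ : PX ⟶ (Functor.const (CategoryTheory.Over i₁)).obj W)
    (hPX : ∀ i' : CategoryTheory.Over i₁, IsPullback (PXπ₁.app i') (PXπ₂.app i') (D.map i'.hom) w)
    (DX : CategoryTheory.Over i₁ ⥤ Sp S) (hDX : ∀ i', IsAlgSpace (DX.obj i')) (εX : DX ⟶ PX)
    (ξX : (Functor.const (CategoryTheory.Over i₁)).obj X ⟶ DX)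
    (hξX : ∀ i' : CategoryTheory.Over i₁, ξX.app i' ≫ εX.app i' ≫ PXπ₁.app i' = aX ≫ c.π.app i'.left ∧
      ξX.app i' ≫ εX.app i' ≫ PXπ₂.app i' = bX)
    (himgX : ∀ i' : CategoryTheory.Over i₁, IsSchImage (ξX.app i' ≫ εX.app i') (εX.app i'))
    (i₂ : I) {V : Sp S} (hV : IsAlgSpace V) (v : V ⟶ D.obj i₂) (hv : IsFinitePresentationMor v) (bY : Y ⟶ V)
    (hbY : bY ≫ v = aY ≫ c.π.app i₂)
    (PY : CategoryTheory.Over i₂ ⥤ Sp S) (PYπ₁ : PY ⟶ CategoryTheory.Over.forget i₂ ⋙ D)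
    (PYπ₂ : PY ⟶ (Functor.const (CategoryTheory.Over i₂)).obj V)
    (hPY : ∀ i' : CategoryTheory.Over i₂, IsPullback (PYπ₁.app i') (PYπ₂.app i') (D.map i'.hom) v)
    (DY : CategoryTheory.Over i₂ ⥤ Sp S) (hDY : ∀ i', IsAlgSpace (DY.obj i')) (εY : DY ⟶ PY)
    (ξY : (Functor.const (CategoryTheory.Over i₂)).obj Y ⟶ DY)
    (hξY : ∀ i' : CategoryTheory.Over i₂, ξY.app i' ≫ εY.app i' ≫ PYπ₁.app i' = aY ≫ c.π.app i'.left ∧
      ξY.app i' ≫ εY.app i' ≫ PYπ₂.app i' = bY)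
    (himgY : ∀ i' : CategoryTheory.Over i₂, IsSchImage (ξY.app i' ≫ εY.app i') (εY.app i')) :
    ∃ (i₀ : I) (φ₁ : i₀ ⟶ i₁) (φ₂ : i₀ ⟶ i₂)
      (fam : CategoryTheory.Over.map φ₁ ⋙ DX ⟶ CategoryTheory.Over.map φ₂ ⋙ DY),
      (∀ i' : CategoryTheory.Over i₀, ξX.app ((CategoryTheory.Over.map φ₁).obj i') ≫ fam.app i' =
          f ≫ ξY.app ((CategoryTheory.Over.map φ₂).obj i')) ∧
        (∀ i' : CategoryTheory.Over i₀, fam.app i' ≫ εY.app ((CategoryTheory.Over.map φ₂).obj i') ≫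
            PYπ₁.app ((CategoryTheory.Over.map φ₂).obj i') =
          εX.app ((CategoryTheory.Over.map φ₁).obj i') ≫ PXπ₁.app ((CategoryTheory.Over.map φ₁).obj i')) ∧
      ∀ gam : CategoryTheory.Over.map φ₁ ⋙ DX ⟶ CategoryTheory.Over.map φ₂ ⋙ DY,
        (∀ i' : CategoryTheory.Over i₀, ξX.app ((CategoryTheory.Over.map φ₁).obj i') ≫ gam.app i' =
          f ≫ ξY.app ((CategoryTheory.Over.map φ₂).obj i')) ∧
        (∀ i' : CategoryTheory.Over i₀, gam.app i' ≫ εY.app ((CategoryTheory.Over.map φ₂).obj i') ≫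
            PYπ₁.app ((CategoryTheory.Over.map φ₂).obj i') =
          εX.app ((CategoryTheory.Over.map φ₁).obj i') ≫ PXπ₁.app ((CategoryTheory.Over.map φ₁).obj i')) →
        ∃ (j₀ : I) (ψ : j₀ ⟶ i₀), ∀ j : CategoryTheory.Over j₀,
          fam.app ((CategoryTheory.Over.map ψ).obj j) = gam.app ((CategoryTheory.Over.map ψ).obj j) := by
  have hPXa : ∀ k, IsAlgSpace (PX.obj k) := fun k => ASp.isAlgSpace_of_isPullback (hD i₁).diag (hD _) hW (hPX k)
  have hPX₁ : ∀ {k l : CategoryTheory.Over i₁} (φ : k ⟶ l), PX.map φ ≫ PXπ₁.app l = PXπ₁.app k ≫ D.map φ.left :=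
    fun φ => PXπ₁.naturality φ
  have hPX₂ : ∀ {k l : CategoryTheory.Over i₁} (φ : k ⟶ l), PX.map φ ≫ PXπ₂.app l = PXπ₂.app k := fun φ => by
    simpa using PXπ₂.naturality φ
  have hPY₁ : ∀ {k l : CategoryTheory.Over i₂} (φ : k ⟶ l), PY.map φ ≫ PYπ₁.app l = PYπ₁.app k ≫ D.map φ.left :=
    fun φ => PYπ₁.naturality φ
  have hPY₂ : ∀ {k l : CategoryTheory.Over i₂} (φ : k ⟶ l), PY.map φ ≫ PYπ₂.app l = PYπ₂.app k := fun φ => by
    simpa using PYπ₂.naturality φ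
  have hPXf : ∀ k l (φ : k ⟶ l), IsAffineMor (PX.map φ) := fun k l φ => by
    have h2 : IsPullback (PXπ₁.app k) (PX.map φ ≫ PXπ₂.app l) (D.map φ.left ≫ D.map l.hom) w := by
      rw [hPX₂, ← D.map_comp, Over.w]; exact hPX k
    exact ASp.isAffineMor_baseChange (IsPullback.of_bot h2 (hPX₁ φ).symm (hPX l)) (hDa _ _ _)
  have hεa : ∀ k, IsAffineMor (εX.app k) := fun k =>
    ASp.isAffineMor_of_repWith (P := @IsClosedImmersion) (fun m (_ : IsClosedImmersion m) => inferInstance) (himgX k).1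
  have hDXf : ∀ k l (φ : k ⟶ l), IsAffineMor (DX.map φ) := fun k l φ => by
    refine ASp.isAffineMor_of_comp_affine (hDX l) (hPXa l) _ (εX.app l) (hεa l) ?_
    rw [εX.naturality φ]
    exact ASt.isAffineMor_comp (hεa k) (hPXf k l φ)
  have hPXq : ∀ k, IsQuasiCompactSp (PX.obj k) ∧ IsQuasiSeparatedSp (PX.obj k) := fun k =>
    ⟨hw.2.1 (hD _) (hqc k.left) _ _ _ (hPX k).flip,
      ASp.isQuasiSeparatedSp_of_mor (hqs k.left) (isQuasiSeparatedMor_of_isPullback (hPX k).flip hw.2.2)⟩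
  have hDXq := fun k => ASp.qcqs_of_isAffineMor (hDX k) (hPXa k) (hεa k) (hPXq k).1 (hPXq k).2
  obtain ⟨hlimX⟩ := exists_isLimit_of_images D hD hDa hqc c hc aX i₁ hW w hw.2.1 bX hbX hciX PX PXπ₁ PXπ₂ hPX
    DX hDX εX ξX hξX himgX
  have hu : ASp.SpLPUniq v := ASp.spLPUniq_of_locP_lft hV (hD i₂)
    (ASp.locP_mono (fun _ _ g (hg : LocallyOfFinitePresentation g) => inferInstanceAs (LocallyOfFiniteType g)) hv.1)
  have he : ASp.SpLPExist v := ASp.spLPExist_of_locP hV (hD i₂) hv.1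
  let k₀ : CategoryTheory.Over i₁ := CategoryTheory.Over.mk (IsCofiltered.minToLeft i₁ i₂)
  obtain ⟨k, ψ, x', hx1, hx2⟩ := ASp.exists_lift_stage_space he hu DX hDX hDXf ⟨X, ξX⟩ hlimX (fun k => (hDXq k).1)
    (fun k => (hDXq k).2) k₀ (f ≫ bY) (εX.app k₀ ≫ PXπ₁.app k₀ ≫ D.map (IsCofiltered.minToRight i₁ i₂)) (by
      show _ = ξX.app k₀ ≫ _
      have h1 := (hξX k₀).1
      calc (f ≫ bY) ≫ v = f ≫ bY ≫ v := Category.assoc _ _ _
        _ = aX ≫ c.π.app i₂ := by rw [hbY, ← Category.assoc, hf]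
        _ = (aX ≫ c.π.app k₀.left) ≫ D.map (IsCofiltered.minToRight i₁ i₂) := by
            rw [Category.assoc, c.w]
        _ = (ξX.app k₀ ≫ εX.app k₀ ≫ PXπ₁.app k₀) ≫ D.map (IsCofiltered.minToRight i₁ i₂) := by rw [h1]
        _ = _ := by simp)
  let φ₁ : k.left ⟶ i₁ := k.hom
  let φ₂ : k.left ⟶ i₂ := ψ.left ≫ IsCofiltered.minToRight i₁ i₂
  let L₁ := CategoryTheory.Over.map φ₁
  let L₂ := CategoryTheory.Over.map φ₂
  let toK : ∀ i' : CategoryTheory.Over k.left, L₁.obj i' ⟶ k := fun i' => CategoryTheory.Over.homMk i'.hom rfl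
  have hcond : ∀ i' : CategoryTheory.Over k.left,
      (εX.app (L₁.obj i') ≫ PXπ₁.app (L₁.obj i')) ≫ D.map (L₂.obj i').hom =
        (DX.map (toK i') ≫ x') ≫ v := fun i' => by
    rw [Category.assoc (DX.map (toK i')), hx2, ← Category.assoc (DX.map _), ← DX.map_comp]
    have n1 := εX.naturality (toK i' ≫ ψ)
    rw [reassoc_of% n1, reassoc_of% (hPX₁ (toK i' ≫ ψ)), Category.assoc, ← D.map_comp]
    congr 3
    show i'.hom ≫ φ₂ = (i'.hom ≫ ψ.left) ≫ _
    rw [Category.assoc]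
  let g : ∀ i', DX.obj (L₁.obj i') ⟶ PY.obj (L₂.obj i') := fun i' => (hPY (L₂.obj i')).lift _ _ (hcond i')
  have hg₁ : ∀ i', g i' ≫ PYπ₁.app (L₂.obj i') = εX.app (L₁.obj i') ≫ PXπ₁.app (L₁.obj i') :=
    fun i' => (hPY (L₂.obj i')).lift_fst _ _ _
  have hg₂ : ∀ i', g i' ≫ PYπ₂.app (L₂.obj i') = DX.map (toK i') ≫ x' :=
    fun i' => (hPY (L₂.obj i')).lift_snd _ _ _
  have hξ : ∀ i', (f ≫ ξY.app (L₂.obj i')) ≫ εY.app (L₂.obj i') = ξX.app (L₁.obj i') ≫ g i' := fun i' => by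
    refine (hPY (L₂.obj i')).hom_ext ?_ ?_
    · simp only [Category.assoc]
      rw [(hξY (L₂.obj i')).1, hg₁ i', (hξX (L₁.obj i')).1, ← Category.assoc, hf]
      rfl
    · simp only [Category.assoc]
      rw [(hξY (L₂.obj i')).2, hg₂ i']
      have n : ξX.app (L₁.obj i') ≫ DX.map (toK i') = ξX.app k := by
        simpa using (ξX.naturality (toK i')).symm
      rw [reassoc_of% n]
      exact hx1.symm
  have hPYa : ∀ l, IsAlgSpace (PY.obj l) := fun l => ASp.isAlgSpace_of_isPullback (hD i₂).diag (hD _) hV (hPY l)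
  have hm : ∀ i', ∃ m : DX.obj (L₁.obj i') ⟶ DY.obj (L₂.obj i'), m ≫ εY.app (L₂.obj i') = g i' := fun i' =>
    exists_lift_of_isSchImage (himgX _) (hDX _) (hDY _) (hPYa _) (himgY _).1 (g i') (f ≫ ξY.app (L₂.obj i')) (hξ i')
  choose m hm using hm
  have hmono : ∀ l, Mono (εY.app l) := fun l =>
    ASp.mono_of_repWith (P := @IsClosedImmersion) (fun g (_ : IsClosedImmersion g) => inferInstance) (himgY l).1
  let fam : L₁ ⋙ DX ⟶ L₂ ⋙ DY :=
    { app := m
      naturality := fun a b η => by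
        haveI := hmono (L₂.obj b)
        refine (cancel_mono (εY.app (L₂.obj b))).1 ?_
        show (DX.map (L₁.map η) ≫ m b) ≫ εY.app _ = (m a ≫ DY.map (L₂.map η)) ≫ εY.app _
        rw [Category.assoc, hm, Category.assoc, εY.naturality, reassoc_of% (hm a)]
        refine (hPY (L₂.obj b)).hom_ext ?_ ?_
        · rw [Category.assoc, hg₁, Category.assoc, hPY₁, reassoc_of% (hg₁ a), reassoc_of% (εX.naturality (L₁.map η)),
            hPX₁]
          rfl
        · rw [Category.assoc, hg₂, Category.assoc, hPY₂, hg₂, ← Category.assoc, ← DX.map_comp]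
          congr 2
          ext
          exact Over.w η }
  refine ⟨k.left, φ₁, φ₂, fam, fun i' => ?_, fun i' => ?_, fun gam ⟨hγ1, hγ2⟩ => ?_⟩
  · haveI := hmono (L₂.obj i')
    refine (cancel_mono (εY.app (L₂.obj i'))).1 ?_
    show (ξX.app (L₁.obj i') ≫ m i') ≫ εY.app (L₂.obj i') = _
    rw [hξ i', Category.assoc, hm]
  · show m i' ≫ _ = _
    rw [reassoc_of% (hm i')]
    exact hg₁ i'
  · let o : CategoryTheory.Over k.left := CategoryTheory.Over.mk (𝟙 k.left)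
    let pr₂ : DY.obj (L₂.obj o) ⟶ V := εY.app (L₂.obj o) ≫ PYπ₂.app (L₂.obj o)
    obtain ⟨j, χ, hj⟩ := ASp.exists_eq_stage_space hu DX hDX hDXf ⟨X, ξX⟩ hlimX (L₁.obj o) (hDXq _).1
      (fam.app o ≫ pr₂) (gam.app o ≫ pr₂) (by
        show ξX.app (L₁.obj o) ≫ m o ≫ pr₂ = ξX.app (L₁.obj o) ≫ gam.app o ≫ pr₂
        rw [reassoc_of% (hγ1 o)]
        show ξX.app (L₁.obj o) ≫ m o ≫ εY.app _ ≫ PYπ₂.app _ = _
        rw [reassoc_of% (hm o)]
        have h := congrArg (· ≫ PYπ₂.app (L₂.obj o)) (hξ o)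
        simpa [pr₂] using h.symm) (by
        show (m o ≫ εY.app (L₂.obj o) ≫ PYπ₂.app (L₂.obj o)) ≫ v =
          (gam.app o ≫ εY.app (L₂.obj o) ≫ PYπ₂.app (L₂.obj o)) ≫ v
        simp only [Category.assoc, ← (hPY (L₂.obj o)).w]
        have h1 : m o ≫ εY.app (L₂.obj o) ≫ PYπ₁.app (L₂.obj o) =
            gam.app o ≫ εY.app (L₂.obj o) ≫ PYπ₁.app (L₂.obj o) := by
          rw [reassoc_of% (hm o), hg₁ o]; exact (hγ2 o).symm
        simpa only [Category.assoc] using congrArg (· ≫ D.map (L₂.obj o).hom) h1)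
    refine ⟨j.left, χ.left, fun jj => ?_⟩
    let i' := (CategoryTheory.Over.map χ.left).obj jj
    haveI := hmono (L₂.obj i')
    refine (cancel_mono (εY.app (L₂.obj i'))).1 ((hPY (L₂.obj i')).hom_ext ?_ ?_)
    · simp only [Category.assoc]
      exact (show m i' ≫ _ = _ by rw [reassoc_of% (hm i')]; exact hg₁ i').trans (hγ2 i').symm
    · let η : i' ⟶ o := CategoryTheory.Over.homMk (jj.hom ≫ χ.left) (Category.comp_id _)
      let η' : L₁.obj i' ⟶ j := CategoryTheory.Over.homMk jj.hom (by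
        show jj.hom ≫ j.hom = (jj.hom ≫ χ.left) ≫ φ₁
        rw [Category.assoc]
        exact congrArg (jj.hom ≫ ·) (by
          have := (Over.w χ).symm
          simpa [L₁, o] using this))
      have e1 : L₁.map η = η' ≫ χ := by ext; rfl
      have red : ∀ t : L₁ ⋙ DX ⟶ L₂ ⋙ DY, (t.app i' ≫ εY.app (L₂.obj i')) ≫ PYπ₂.app (L₂.obj i') =
          DX.map η' ≫ DX.map χ ≫ t.app o ≫ pr₂ := fun t => by
        have n : DX.map (L₁.map η) ≫ t.app o = t.app i' ≫ DY.map (L₂.map η) := t.naturality η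
        rw [← Category.assoc (DX.map η'), ← DX.map_comp, ← e1, reassoc_of% n]
        show _ = t.app i' ≫ DY.map (L₂.map η) ≫ εY.app _ ≫ PYπ₂.app _
        rw [reassoc_of% (εY.naturality (L₂.map η)), hPY₂, Category.assoc]
      exact (red fam).trans ((congrArg (DX.map η' ≫ ·) hj).trans (red gam).symm)

end Groth.Agent.ASpLimFP

end
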