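import Groth.Agent.ASpLimFP.MaxIdeal
import Groth.Agent.ASp.SliceSpace
import Groth.Agent.ASp.AffineLimRel
import Groth.Agent.ASp.MorCancel

/-! A space over an affine scheme whose base change to a local ring is a scheme is a scheme nearby. -/

set_option autoImplicit false
set_option linter.style.haveILetI false
set_option linter.unusedSectionVars false
set_option backward.isDefEq.respectTransparency false
set_option backward.isDefEq.respectTransparency.types false
set_option maxHeartbeats 800000

universe u

open CategoryTheory Limits AlgebraicGeometry Opposite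

noncomputable section

namespace Groth.Agent.ASpLimFP

open _root_.AlgSp

variable {A : CommRingCat.{u}}

/-- The functions attached to a map to the spectrum. -/
def toΓ {T : Scheme.{u}} (t : T ⟶ Spec A) : A →+* Γ(T, ⊤) := ((Scheme.ΓSpecIso A).inv ≫ t.appTop).hom

theorem eq_toSpecΓ {T : Scheme.{u}} (t : T ⟶ Spec A) :
    T.toSpecΓ ≫ Spec.map (CommRingCat.ofHom (toΓ t)) = t := by
  rw [toΓ, CommRingCat.ofHom_hom, Spec.map_comp, ← Scheme.toSpecΓ_naturality_assoc, ← SpecMap_ΓSpecIso_hom,
    ← Spec.map_comp, Iso.inv_hom_id, Spec.map_id]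
  exact Category.comp_id t

variable (B : Type u) [CommRing B] [Algebra A B] (M : Submonoid A) [IsLocalization M B]

include M in
theorem exists_lift_loc_iff {T : Scheme.{u}} (t : T ⟶ Spec A) :
    (∃ k, k ≫ Spec.map (CommRingCat.ofHom (algebraMap A B)) = t) ↔ ∀ a : M, IsUnit (toΓ t a) := by
  constructor
  · rintro ⟨k, rfl⟩ a
    have e : toΓ (k ≫ Spec.map (CommRingCat.ofHom (algebraMap A B))) =
        ((Scheme.ΓSpecIso (CommRingCat.of B)).inv ≫ k.appTop).hom.comp (algebraMap A B) := by
      show ((Scheme.ΓSpecIso A).inv ≫ _).hom = _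
      rw [Scheme.Hom.comp_appTop]
      erw [← Scheme.ΓSpecIso_inv_naturality_assoc]
      rfl
    rw [e, RingHom.comp_apply]
    exact (IsLocalization.map_units B a).map _
  · intro h
    refine ⟨T.toSpecΓ ≫ Spec.map (CommRingCat.ofHom (IsLocalization.lift (S := B) (g := toΓ t) h)), ?_⟩
    rw [Category.assoc, ← Spec.map_comp, ← CommRingCat.ofHom_comp, IsLocalization.lift_comp]
    exact eq_toSpecΓ t

/-- The spectrum of a localisation. -/
def locOver : Over (Spec A) := Over.mk (Spec.map (CommRingCat.ofHom (algebraMap A B)))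

/-- Its map to the base. -/
def locInc : locOver B ⟶ Over.mk (𝟙 (Spec A)) :=
  Over.homMk (Spec.map (CommRingCat.ofHom (algebraMap A B))) (Category.comp_id _)

variable {X : Sp (Spec A)} (q : X ⟶ (yon (Spec A)).obj (Over.mk (𝟙 (Spec A))))

/-- The base change to a localisation. -/
def xLoc : Sp (Spec A) := pullback q ((yon (Spec A)).map (locInc B))

/-- Its map to the space. -/
def lInc : xLoc B q ⟶ X := pullback.fst q ((yon (Spec A)).map (locInc B))

include M in
theorem mono_lInc : Mono (lInc B q) := by
  haveI : IsPreimmersion (locInc (A := A) B).left := IsPreimmersion.of_isLocalization M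
  haveI : Mono (locInc (A := A) B) := (Over.forget _).mono_of_mono_map (inferInstanceAs (Mono (locInc (A := A) B).left))
  haveI : Mono ((yon (Spec A)).map (locInc (A := A) B)) := inferInstance
  exact inferInstanceAs (Mono (pullback.fst q ((yon (Spec A)).map (locInc B))))

theorem repWith_lInc : RepWith @IsAffineHom (lInc B q) := by
  haveI : IsAffineHom (locInc (A := A) B).left :=
    inferInstanceAs (IsAffineHom (Spec.map (CommRingCat.ofHom (algebraMap A B))))
  exact ASp.repWith_of_isPullback (IsPullback.of_hasPullback q ((yon (Spec A)).map (locInc B))).flip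
    (ASp.repWith_yon_map inferInstance)

include M in
theorem exists_lift_lInc_iff {T : Over (Spec A)} (g : (yon (Spec A)).obj T ⟶ X) :
    (∃ k, k ≫ lInc B q = g) ↔ ∀ a : M, IsUnit (toΓ T.hom a) := by
  rw [← exists_lift_loc_iff B M]
  constructor
  · rintro ⟨k, rfl⟩
    obtain ⟨l, hl⟩ := (yon (Spec A)).map_surjective (k ≫ pullback.snd _ _)
    exact ⟨l.left, Over.w l⟩
  · rintro ⟨k, hk⟩
    let l : T ⟶ locOver B := Over.homMk k hk
    exact ⟨pullback.lift g ((yon (Spec A)).map l) (ASp.isTerminalYonBase.hom_ext _ _), pullback.lift_fst _ _ _⟩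

/-- The indices: elements of a multiplicative set, ordered by divisibility. -/
def LIdx : Type u := M

instance : Preorder (LIdx M) where
  le a b := (a : M).1 ∣ (b : M).1
  le_refl a := dvd_refl _
  le_trans a b c := dvd_trans

instance : Nonempty (LIdx M) := ⟨(1 : M)⟩

instance : IsDirected (LIdx M) (· ≤ ·) :=
  ⟨fun a b => ⟨@HMul.hMul M M M _ a b, dvd_mul_right (a : M).1 _, dvd_mul_left (b : M).1 _⟩⟩

variable {M}

/-- The localisation of an index. -/
abbrev LB (a : LIdx M) : Type u := Localization.Away (a : M).1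

theorem exists_lift_away_iff (a : LIdx M) {T : Over (Spec A)} (g : (yon (Spec A)).obj T ⟶ X) :
    (∃ k, k ≫ lInc (LB a) q = g) ↔ IsUnit (toΓ T.hom (a : M).1) := by
  rw [exists_lift_lInc_iff (LB a) (Submonoid.powers (a : M).1) q g]
  refine ⟨fun h => h ⟨_, Submonoid.mem_powers _⟩, fun h b => ?_⟩
  obtain ⟨n, hn⟩ := b.2
  rw [← hn, map_pow]
  exact h.pow n

theorem mono_away (a : LIdx M) : Mono (lInc (LB a) q) := mono_lInc (LB a) (Submonoid.powers (a : M).1) q

theorem exists_lStep {a b : LIdx M} (h : a ≤ b) : ∃ k, k ≫ lInc (LB a) q = lInc (LB b) q := by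
  haveI := mono_away q a
  refine exists_lift_of_forall _ _ fun T x => ?_
  exact (exists_lift_away_iff q a _).2
    (isUnit_of_dvd_unit (map_dvd (toΓ T.hom) h) ((exists_lift_away_iff q b _).1 ⟨x, rfl⟩))

variable (M)

/-- The system of principal localisations. -/
def lSys : (LIdx M)ᵒᵖ ⥤ Sp (Spec A) where
  obj J := xLoc (LB J.unop) q
  map φ := (exists_lStep q (leOfHom φ.unop)).choose
  map_id J := by
    haveI := mono_away q J.unop
    refine (cancel_mono (lInc (LB J.unop) q)).1 ?_
    rw [(exists_lStep q (leOfHom (𝟙 J).unop)).choose_spec, Category.id_comp]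
  map_comp {J J' J''} φ ψ := by
    haveI := mono_away q J''.unop
    refine (cancel_mono (lInc (LB J''.unop) q)).1 ?_
    rw [(exists_lStep q (leOfHom (φ ≫ ψ).unop)).choose_spec, Category.assoc,
      (exists_lStep q (leOfHom ψ.unop)).choose_spec, (exists_lStep q (leOfHom φ.unop)).choose_spec]

theorem lSys_map_inc {J J' : (LIdx M)ᵒᵖ} (φ : J ⟶ J') :
    (lSys M q).map φ ≫ lInc (LB J'.unop) q = lInc (LB J.unop) q :=
  (exists_lStep q (leOfHom φ.unop)).choose_spec

theorem exists_lProj (J : LIdx M) : ∃ k, k ≫ lInc (LB J) q = lInc B q := by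
  haveI := mono_away q J
  refine exists_lift_of_forall _ _ fun T x => ?_
  exact (exists_lift_away_iff q J _).2 ((exists_lift_lInc_iff B M q _).1 ⟨x, rfl⟩ J)

/-- The cone at the localisation. -/
def lCone : Cone (lSys M q) where
  pt := xLoc B q
  π :=
    { app := fun J => (exists_lProj B M q J.unop).choose
      naturality := fun J J' φ => by
        haveI := mono_away q J'.unop
        refine (cancel_mono (lInc (LB J'.unop) q)).1 ?_
        refine Eq.trans ?_ (Category.assoc _ _ _).symm
        refine Eq.trans ?_ (congrArg (_ ≫ ·) (lSys_map_inc M q φ)).symm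
        refine Eq.trans (Category.assoc _ _ _) ?_
        refine Eq.trans (Category.id_comp _) ?_
        exact (exists_lProj B M q J'.unop).choose_spec.trans (exists_lProj B M q J.unop).choose_spec.symm }

theorem lCone_π_inc (J : (LIdx M)ᵒᵖ) : (lCone B M q).π.app J ≫ lInc (LB J.unop) q = lInc B q :=
  (exists_lProj B M q J.unop).choose_spec

/-- The cone is a limit. -/
def isLimitLCone : IsLimit (lCone B M q) :=
  have key : ∀ s : Cone (lSys M q), ∃ k : s.pt ⟶ xLoc B q, ∀ J,
      k ≫ (lCone B M q).π.app J = s.π.app J := fun s => by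
    let J₀ : LIdx M := (1 : M)
    have hgJ : ∀ J : LIdx M, s.π.app (op J) ≫ lInc (LB J) q = s.π.app (op J₀) ≫ lInc (LB J₀) q := fun J => by
      have h : J₀ ≤ J := one_dvd (J : M).1
      have w := s.w (j := op J) (j' := op J₀) (homOfLE h).op
      rw [← w]
      exact ((Category.assoc _ _ _).trans (congrArg (_ ≫ ·) (exists_lStep q h).choose_spec)).symm
    haveI := mono_lInc B M q
    obtain ⟨k, hk⟩ := exists_lift_of_forall (lInc B q) (s.π.app (op J₀) ≫ lInc (LB J₀) q) fun T x =>
      (exists_lift_lInc_iff B M q _).2 fun a => (exists_lift_away_iff q (a : LIdx M) _).1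
        ⟨x ≫ s.π.app (op (a : LIdx M)), (Category.assoc _ _ _).trans (congrArg (x ≫ ·) (hgJ a))⟩
    refine ⟨k, fun J => ?_⟩
    haveI := mono_away q J.unop
    refine (cancel_mono (lInc (LB J.unop) q)).1 ?_
    refine ((Category.assoc _ _ _).trans (congrArg (k ≫ ·) (lCone_π_inc B M q J))).trans ?_
    exact hk.trans (hgJ J.unop).symm
  { lift := fun s => (key s).choose
    fac := fun s J => (key s).choose_spec J
    uniq := fun s m hm => by
      let J₀ : LIdx M := (1 : M)
      haveI := mono_lInc B M q
      refine (cancel_mono (lInc B q)).1 ?_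
      have h1 := congrArg (· ≫ lInc (LB J₀) q) ((hm (op J₀)).trans ((key s).choose_spec (op J₀)).symm)
      have e := lCone_π_inc B M q (op J₀)
      exact (congrArg (m ≫ ·) e).symm.trans (((Category.assoc _ _ _).symm.trans h1).trans
        ((Category.assoc _ _ _).trans (congrArg ((key s).choose ≫ ·) e))) }

include M in
/-- If the base change to a localisation is a scheme, so is one to a principal localisation. -/
theorem exists_away_rep (hX : IsAlgSpace X) (hXc : IsQuasiCompactSp X) (hXs : IsQuasiSeparatedSp X)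
    (h : (xLoc B q).obj.IsRepresentable) : ∃ a : M, (xLoc (Localization.Away a.1) q).obj.IsRepresentable := by
  have hD : ∀ J, IsAlgSpace ((lSys M q).obj J) := fun J =>
    ASp.isAlgSpace_pullback (IsAlgSpace.yon_obj _).diag hX (IsAlgSpace.yon_obj _) _ _
  have haff : ∀ J : (LIdx M)ᵒᵖ, IsAffineMor (lInc (LB J.unop) q) := fun J =>
    ASp.isAffineMor_of_repWith (P := @IsAffineHom) (fun k hk => hk) (repWith_lInc _ q)
  have hq := fun J => ASp.qcqs_of_isAffineMor (hD J) hX (haff J) hXc hXs
  obtain ⟨T, ⟨r⟩⟩ := h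
  obtain ⟨J, P, ⟨e⟩⟩ := ASp.exists_scheme_member hD (fun J J' φ =>
      ASp.isAffineMor_of_comp_affine (hD J') hX _ (lInc (LB J'.unop) q) (haff J')
        ((lSys_map_inc M q φ).symm ▸ haff J))
    (fun J => (hq J).1) (fun J => (hq J).2) (lCone B M q) (isLimitLCone B M q) T (AlgSp.isoOfRepresentableBy r)
  exact ⟨(J.unop : M), ASp.isRepresentable_of_iso_yon e⟩

end Groth.Agent.ASpLimFP

end
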