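import Groth.Agent.ASpLimFP.LocalBase
import Groth.Agent.ASp.Glue

/-! A space whose base changes to the local rings of the base are schemes is a scheme. -/

set_option autoImplicit false
set_option linter.style.haveILetI false
set_option linter.unusedSectionVars false
set_option backward.isDefEq.respectTransparency false
set_option backward.isDefEq.respectTransparency.types false
set_option maxHeartbeats 800000

universe u

open CategoryTheory Limits AlgebraicGeometry Opposite

noncomputable section

namespace Groth.Agent.ASpLimFP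

open _root_.AlgSp
open Groth.Agent.ASp.Slice

variable {S S' : Scheme.{u}} (g : S' ⟶ S) [IsOpenImmersion g]

/-- The open as an object over the base. -/
def gInc : Over.mk g ⟶ Over.mk (𝟙 S) := Over.homMk g (Category.comp_id _)

theorem mono_gInc : Mono ((yon S).map (gInc g)) := by
  haveI : Mono (gInc g) := (Over.forget S).mono_of_mono_map (inferInstanceAs (Mono g))
  infer_instance

theorem hom_ext_open {F : Sp S} (a b : F ⟶ (yon S).obj (Over.mk g)) : a = b :=
  haveI := mono_gInc g
  (cancel_mono ((yon S).map (gInc g))).1 (ASp.isTerminalYonBase.hom_ext _ _)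

/-- The base of the open, extended. -/
def baseIso : (extS g).obj ((yon S').obj (Over.mk (𝟙 S'))) ≅ (yon S).obj (Over.mk g) :=
  thetaIso g (Over.mk (𝟙 S')) ≪≫ (yon S).mapIso (Over.isoMk (Iso.refl _) (by simp))

variable {X : Sp S} (q : X ⟶ (yon S).obj (Over.mk (𝟙 S)))

/-- The structure map of the restriction. -/
def qRes : (res g).obj X ⟶ (yon S').obj (Over.mk (𝟙 S')) := ASp.isTerminalYonBase.from _

theorem isPullback_res :
    IsPullback (counit g X) ((extS g).map (qRes g (X := X))) q ((baseIso g).hom ≫ (yon S).map (gInc g)) := by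
  have h : IsPullback (counit g X) (base g ((res g).obj X)) q ((yon S).map (gInc g)) := by
    refine IsPullback.of_isLimit' ⟨ASp.isTerminalYonBase.hom_ext _ _⟩ ?_
    exact PullbackCone.IsLimit.mk _ (fun s => (isLimitProdFan g X).lift (BinaryFan.mk s.snd s.fst))
      (fun s => (isLimitProdFan g X).fac (BinaryFan.mk s.snd s.fst) ⟨WalkingPair.right⟩)
      (fun s => (isLimitProdFan g X).fac (BinaryFan.mk s.snd s.fst) ⟨WalkingPair.left⟩)
      (fun s m h1 h2 => (isLimitProdFan g X).hom_ext (fun j => by
        rcases j with ⟨⟨⟩⟩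
        · exact h2.trans ((isLimitProdFan g X).fac (BinaryFan.mk s.snd s.fst) ⟨WalkingPair.left⟩).symm
        · exact h1.trans ((isLimitProdFan g X).fac (BinaryFan.mk s.snd s.fst) ⟨WalkingPair.right⟩).symm))
  exact h.of_iso (Iso.refl _) (Iso.refl _) (baseIso g).symm (Iso.refl _) (by simp)
    (by
      rw [Iso.refl_hom, Category.id_comp]
      exact (cancel_mono (baseIso g).hom).1 (hom_ext_open g _ _))
    (by simp) (by simp)

theorem isAlgSpace_res (hX : IsAlgSpace X) : IsAlgSpace ((res g).obj X) :=
  (isAlgSpace_ext_iff (g := g)).1 (ASp.isAlgSpace_of_isPullback (IsAlgSpace.yon_obj (Over.mk (𝟙 S))).diag hX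
    ((isAlgSpace_ext_iff (g := g)).2 (IsAlgSpace.yon_obj _)) (isPullback_res g (ASp.isTerminalYonBase.from X)))

theorem qcqs_res [IsAffine S'] (hqc : IsQuasiCompactMor q) (hqs : IsQuasiSeparatedMor q) :
    IsQuasiCompactSp ((res g).obj X) ∧ IsQuasiSeparatedSp ((res g).obj X) := by
  have sq := isPullback_res g q
  haveI : CompactSpace ↥(Over.mk g).left := inferInstanceAs (CompactSpace ↥S')
  haveI : QuasiSeparatedSpace ↥(Over.mk (𝟙 S')).left := inferInstanceAs (QuasiSeparatedSpace ↥S')
  refine ⟨?_, ?_⟩
  · obtain ⟨U, a, ha, has, hU⟩ := hqc ((isAlgSpace_ext_iff (g := g)).2 (IsAlgSpace.yon_obj (Over.mk (𝟙 S'))))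
      (by
        obtain ⟨U, a, ha, has, hU⟩ := (ASp.isQuasiCompactSp_yon (W := Over.mk g))
        exact ⟨U, a ≫ (baseIso g).inv, ASp.repWith_comp ha (ASp.repWith_of_isIso _),
          ASp.repWith_comp has (ASp.repWith_of_isIso _), hU⟩) _ _ _ sq
    obtain ⟨T, a', e, he⟩ := exists_map_eq g a
    haveI : IsIso (theta g T) := (thetaIso g T).isIso_hom
    haveI : CompactSpace ↥((Over.forget S).obj U) := hU
    refine ⟨T, a', (repWith_map_iff (g := g) a').1 ?_, (repWith_map_iff (g := g) a').1 ?_, ?_⟩
    · rw [he, ← Category.assoc]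
      exact MorphismProperty.RespectsIso.precomp (P := RepWith @Etale) _ _ ha
    · rw [he, ← Category.assoc]
      exact MorphismProperty.RespectsIso.precomp (P := RepWith @Surjective) _ _ has
    · exact ((Over.forget S).mapIso e).schemeIsoToHomeo.symm.compactSpace
  · refine ASp.isQuasiSeparatedSp_of_mor (f := qRes g (X := X)) (ASp.isQuasiSeparatedSp_yon_of_qs' _) ?_
    obtain ⟨s, hs, -⟩ := ASp.isPullback_diagonal_baseChange sq
    refine (repWith_map_iff (g := g) (P := @QuasiCompact) _).1 ?_
    let i := ((IsPullback.of_hasPullback (qRes g (X := X)) (qRes g (X := X))).map (extS g)).isoPullback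
    have e : (extS g).map (pullback.diagonal (qRes g (X := X))) ≫ i.hom =
        pullback.diagonal ((extS g).map (qRes g (X := X))) := by
      apply pullback.hom_ext <;> simp [i, ← Functor.map_comp]
    rw [(Iso.eq_comp_inv i).2 e]
    exact ASp.repWith_comp (ASp.repWith_of_isPullback hs hqs) (ASp.repWith_of_isIso _)

/-- An object over the open, over the base. -/
def overInc (T : Over S') : (Over.map g).obj T ⟶ Over.mk (𝟙 S) := Over.homMk (T.hom ≫ g) (Category.comp_id _)

theorem isPullback_ext (T : Over S') (m : T ⟶ Over.mk (𝟙 S')) :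
    IsPullback ((extS g).map (pullback.fst (qRes g (X := X)) ((yon S').map m)) ≫ counit g X)
      ((extS g).map (pullback.snd (qRes g (X := X)) ((yon S').map m)) ≫ theta g T) q
      ((yon S).map (overInc g T)) := by
  have h := ((IsPullback.of_hasPullback (qRes g (X := X)) ((yon S').map m)).map (extS g)).paste_horiz (isPullback_res g q)
  exact h.of_iso (Iso.refl _) (Iso.refl _) (thetaIso g T) (Iso.refl _) (by simp)
    (by simp [thetaIso]) (by simp) (ASp.isTerminalYonBase.hom_ext _ _)

theorem rep_of_ext {G : Sp S'} {W : Over S} (e : (yon S).obj W ≅ (extS g).obj G) : G.obj.IsRepresentable := by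
  obtain ⟨T, a, e', ha⟩ := exists_map_eq g e.hom
  haveI : IsIso (theta g T) := (thetaIso g T).isIso_hom
  haveI : IsIso ((extS g).map a) := by rw [ha]; infer_instance
  haveI : IsIso a := isIso_of_reflects_iso a (extS g)
  exact ASp.isRepresentable_of_iso_yon (asIso a)

theorem exists_open_chart {A : CommRingCat.{u}} (g : Spec A ⟶ S) [IsOpenImmersion g] (hX : IsAlgSpace X)
    (hqc : IsQuasiCompactMor q) (hqs : IsQuasiSeparatedMor q) (B : Type u) [CommRing B] [Algebra A B]
    (p : PrimeSpectrum A) [IsLocalization p.asIdeal.primeCompl B]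
    (hB : ∀ (P : Sp S) (fst : P ⟶ X) (snd : P ⟶ (yon S).obj ((Over.map g).obj (locOver B))),
      IsPullback fst snd q ((yon S).map (overInc g (locOver B))) → P.obj.IsRepresentable)
    (x : Points X) (hx : Points.map q x = Points.schemeHomeo (Over.mk (𝟙 S)) (g p)) :
    ∃ (W : Over S) (f : (yon S).obj W ⟶ X), RepWith @IsOpenImmersion f ∧ x ∈ Set.range (Points.map f) := by
  obtain ⟨hc, hs⟩ := qcqs_res g q hqc hqs
  have hrep : (xLoc B (qRes g (X := X))).obj.IsRepresentable := by
    obtain ⟨W, ⟨r⟩⟩ := hB _ _ _ (isPullback_ext g q (locOver B) (locInc B))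
    exact rep_of_ext g (AlgSp.isoOfRepresentableBy r)
  obtain ⟨a, T, ⟨r⟩⟩ := exists_away_rep B p.asIdeal.primeCompl (qRes g (X := X)) (isAlgSpace_res g hX) hc hs hrep
  have sq := isPullback_ext g q (locOver (A := A) (Localization.Away a.1)) (locInc _)
  have hoi : IsOpenImmersion (overInc g (locOver (A := A) (Localization.Away a.1))).left := by
    haveI : IsOpenImmersion (Spec.map (CommRingCat.ofHom (algebraMap A (Localization.Away a.1)))) :=
      IsOpenImmersion.of_isLocalization a.1
    exact inferInstanceAs (IsOpenImmersion (Spec.map (CommRingCat.ofHom (algebraMap A (Localization.Away a.1))) ≫ g))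
  let e : (yon S).obj ((Over.map g).obj T) ≅ (extS g).obj (xLoc (Localization.Away a.1) (qRes g (X := X))) :=
    (thetaIso g T).symm ≪≫ (extS g).mapIso (AlgSp.isoOfRepresentableBy r)
  refine ⟨(Over.map g).obj T,
    e.hom ≫ ((extS g).map (pullback.fst (qRes g (X := X)) ((yon (Spec A)).map (locInc (A := A) (Localization.Away a.1)))) ≫ counit g X),
    ASp.repWith_comp (ASp.repWith_of_isIso _) (ASp.repWith_of_isPullback sq.flip (ASp.repWith_yon_map hoi)), ?_⟩
  obtain ⟨y, hy⟩ : p ∈ Set.range (PrimeSpectrum.comap (algebraMap A (Localization.Away a.1))) := by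
    rw [PrimeSpectrum.localization_away_comap_range (Localization.Away a.1) a.1]
    exact a.2
  have hr := (ASp.range_map_snd sq.flip).ge (show x ∈ Points.map q ⁻¹' _ from
    ⟨Points.schemeHomeo ((Over.map g).obj (locOver (A := A) (Localization.Away a.1))) y, by
      rw [hx, Points.map_yon_map_apply]
      show _ = Points.schemeHomeo (Over.mk (𝟙 S)) (g p)
      exact congrArg (fun z => Points.schemeHomeo (Over.mk (𝟙 S)) (g z)) hy⟩)
  obtain ⟨z, hz⟩ := hr
  exact ⟨Points.map e.inv z, by rw [← Points.map_comp, Iso.inv_hom_id_assoc]; exact hz⟩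

theorem isRepresentable_of_stalks (hX : IsAlgSpace X) (hqc : IsQuasiCompactMor q) (hqs : IsQuasiSeparatedMor q)
    (h : ∀ x : Points X, ∀ (P : Sp S) (fst : P ⟶ X)
      (snd : P ⟶ (yon S).obj (Over.mk (S.fromSpecStalk ((Points.schemeHomeo (Over.mk (𝟙 S))).symm (Points.map q x))))),
      IsPullback fst snd q ((yon S).map (Over.homMk (S.fromSpecStalk _))) → P.obj.IsRepresentable) :
    X.obj.IsRepresentable := by
  have key : ∀ x : Points X,
      ∃ (W : Over S) (f : (yon S).obj W ⟶ X), RepWith @IsOpenImmersion f ∧ x ∈ Set.range (Points.map f) := fun x => by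
    let s : S := (Points.schemeHomeo (Over.mk (𝟙 S))).symm (Points.map q x)
    obtain ⟨_, ⟨U : S.Opens, hU, rfl⟩, hsU, -⟩ :=
      S.isBasis_affineOpens.exists_subset_of_mem_open (Set.mem_univ s) isOpen_univ
    letI : Algebra Γ(S, U) (S.presheaf.stalk s) := (S.presheaf.germ U s hsU).hom.toAlgebra
    haveI : IsLocalization (hU.primeIdealOf ⟨s, hsU⟩).asIdeal.primeCompl (S.presheaf.stalk s) :=
      hU.isLocalization_stalk ⟨s, hsU⟩
    refine exists_open_chart q hU.fromSpec hX hqc hqs (S.presheaf.stalk s) (hU.primeIdealOf ⟨s, hsU⟩) ?_ x ?_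
    · intro P fst snd sq
      have e : (locOver (A := Γ(S, U)) (S.presheaf.stalk s)).hom ≫ hU.fromSpec = S.fromSpecStalk s := by
        rw [← hU.fromSpecStalk_eq_fromSpecStalk hsU]
        rfl
      let i : (Over.map hU.fromSpec).obj (locOver (A := Γ(S, U)) (S.presheaf.stalk s)) ≅ Over.mk (S.fromSpecStalk s) :=
        Over.isoMk (Iso.refl _) ((Category.id_comp _).trans e.symm)
      exact h x P fst (snd ≫ (yon S).map i.hom) (sq.of_iso (Iso.refl _) (Iso.refl _) ((yon S).mapIso i) (Iso.refl _)
        (by simp) (by simp) (by simp) (ASp.isTerminalYonBase.hom_ext _ _))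
    · rw [hU.fromSpec_primeIdealOf]
      exact ((Points.schemeHomeo (Over.mk (𝟙 S))).apply_symm_apply _).symm
  choose W f hf hx using key
  obtain ⟨U, p, hp, hps⟩ := hX.atlas
  obtain ⟨P, ⟨e⟩⟩ := ASp.exists_scheme_of_openCover hX (fun u : U.left => W (Points.ofPt p u))
    (fun u => f (Points.ofPt p u)) (fun u => hf _)
    (fun x => by
      obtain ⟨u, rfl⟩ := ASp.surjective_ofPt hps x
      exact ⟨u, hx _⟩)
  exact ASp.isRepresentable_of_iso_yon e

end Groth.Agent.ASpLimFP

end
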