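import Groth.Agent.ASpLimFP.Approx
import Groth.Agent.ASp.SchemeLim
import Groth.Agent.ASp.AffineLim
import Groth.Agent.ASp.TopFpqc
import Groth.Agent.ASp.QSComp

/-! Closed base changes of a space over an affine scheme along chains of ideals. -/

set_option autoImplicit false
set_option linter.style.haveILetI false
set_option linter.unusedSectionVars false
set_option backward.isDefEq.respectTransparency false
set_option backward.isDefEq.respectTransparency.types false
set_option maxHeartbeats 800000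

universe u

open CategoryTheory Limits AlgebraicGeometry Opposite

noncomputable section

namespace Groth.Agent.ASpLimFP

open _root_.AlgSp

variable {A : CommRingCat.{u}}

theorem exists_lift_quot_iff {T : Scheme.{u}} (t : T ⟶ Spec A) (I : Ideal A) :
    (∃ k, k ≫ Spec.map (CommRingCat.ofHom (Ideal.Quotient.mk I)) = t) ↔
      I ≤ RingHom.ker ((Scheme.ΓSpecIso A).inv ≫ t.appTop).hom := by
  constructor
  · rintro ⟨k, rfl⟩ a ha
    rw [RingHom.mem_ker, Scheme.Hom.comp_appTop]
    erw [← Scheme.ΓSpecIso_inv_naturality_assoc]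
    show (((Scheme.ΓSpecIso _).inv ≫ k.appTop).hom) (Ideal.Quotient.mk I a) = 0
    rw [Ideal.Quotient.eq_zero_iff_mem.2 ha, map_zero]
  · intro h
    refine ⟨T.toSpecΓ ≫ Spec.map (CommRingCat.ofHom (Ideal.Quotient.lift I _ fun a ha => h ha)), ?_⟩
    rw [Category.assoc, ← Spec.map_comp, ← CommRingCat.ofHom_comp, Ideal.Quotient.lift_comp_mk,
      CommRingCat.ofHom_hom, Spec.map_comp, ← Scheme.toSpecΓ_naturality_assoc, ← SpecMap_ΓSpecIso_hom,
      ← Spec.map_comp, Iso.inv_hom_id, Spec.map_id]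
    exact Category.comp_id t

/-- The closed subscheme of an ideal. -/
def quotOver (I : Ideal A) : Over (Spec A) :=
  Over.mk (Spec.map (CommRingCat.ofHom (Ideal.Quotient.mk I)))

/-- Its inclusion into the base. -/
def quotInc (I : Ideal A) : quotOver I ⟶ Over.mk (𝟙 (Spec A)) :=
  Over.homMk (Spec.map (CommRingCat.ofHom (Ideal.Quotient.mk I))) (Category.comp_id _)

theorem isClosedImmersion_quotInc (I : Ideal A) : IsClosedImmersion (quotInc I).left :=
  IsClosedImmersion.spec_of_surjective _ Ideal.Quotient.mk_surjective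

theorem repWith_quotInc (I : Ideal A) : RepWith @IsClosedImmersion ((yon (Spec A)).map (quotInc I)) :=
  ASp.repWith_yon_map (isClosedImmersion_quotInc I)

theorem exists_lift_quotInc_iff (T : Over (Spec A)) (g : (yon (Spec A)).obj T ⟶ (yon (Spec A)).obj (Over.mk (𝟙 (Spec A))))
    (I : Ideal A) :
    (∃ k, k ≫ (yon (Spec A)).map (quotInc I) = g) ↔
      I ≤ RingHom.ker ((Scheme.ΓSpecIso A).inv ≫ T.hom.appTop).hom := by
  obtain ⟨w, rfl⟩ := (yon (Spec A)).map_surjective g
  have hw : w.left = T.hom := (Category.comp_id _).symm.trans (Over.w w)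
  rw [← exists_lift_quot_iff, ← hw]
  constructor
  · rintro ⟨k, hk⟩
    obtain ⟨l, rfl⟩ := (yon (Spec A)).map_surjective k
    rw [← Functor.map_comp] at hk
    exact ⟨l.left, congrArg CommaMorphism.left ((yon (Spec A)).map_injective hk)⟩
  · rintro ⟨k, hk⟩
    let l : T ⟶ quotOver I := Over.homMk k (hk.trans hw)
    exact ⟨(yon (Spec A)).map l, by rw [← Functor.map_comp]; exact congrArg _ (Over.OverMorphism.ext hk)⟩

variable {X : Sp (Spec A)} (q : X ⟶ (yon (Spec A)).obj (Over.mk (𝟙 (Spec A))))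

/-- The closed base change at an ideal. -/
def xQuot (I : Ideal A) : Sp (Spec A) := pullback q ((yon (Spec A)).map (quotInc I))

/-- Its inclusion. -/
def xInc (I : Ideal A) : xQuot q I ⟶ X := pullback.fst q ((yon (Spec A)).map (quotInc I))

theorem repWith_xInc (I : Ideal A) : RepWith @IsClosedImmersion (xInc q I) :=
  ASp.repWith_of_isPullback (IsPullback.of_hasPullback q ((yon (Spec A)).map (quotInc I))).flip (repWith_quotInc I)

theorem mono_xInc (I : Ideal A) : Mono (xInc q I) :=
  ASp.mono_of_repWith (P := @IsClosedImmersion) (fun g (hg : IsClosedImmersion g) => inferInstance) (repWith_xInc q I)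

theorem exists_lift_xInc_iff {I : Ideal A} {T : Over (Spec A)} (g : (yon (Spec A)).obj T ⟶ X) :
    (∃ k, k ≫ xInc q I = g) ↔ I ≤ RingHom.ker ((Scheme.ΓSpecIso A).inv ≫ T.hom.appTop).hom := by
  rw [← exists_lift_quotInc_iff T (g ≫ q)]
  constructor
  · rintro ⟨k, rfl⟩
    exact ⟨k ≫ pullback.snd _ _, by rw [Category.assoc, Category.assoc, ← pullback.condition]; rfl⟩
  · rintro ⟨k, hk⟩
    exact ⟨pullback.lift g k hk.symm, pullback.lift_fst _ _ _⟩

/-- A map to `X` lifts if it does on all test schemes. -/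
theorem exists_lift_of_forall {F Y Z : Sp (Spec A)} (i : Z ⟶ Y) [Mono i] (g : F ⟶ Y)
    (h : ∀ (T : Over (Spec A)) (x : (yon (Spec A)).obj T ⟶ F), ∃ k, k ≫ i = x ≫ g) : ∃ k, k ≫ i = g := by
  haveI : Epi (pullback.fst g i) := ⟨fun {G} v w hvw => ASp.hom_ext_yon fun T x => by
    obtain ⟨k, hk⟩ := h T x
    rw [← pullback.lift_fst (f := g) (g := i) x k hk.symm, Category.assoc, Category.assoc, hvw]⟩
  haveI : IsIso (pullback.fst g i) := isIso_of_mono_of_epi _
  exact ⟨inv (pullback.fst g i) ≫ pullback.snd g i, by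
    rw [Category.assoc, ← pullback.condition, IsIso.inv_hom_id_assoc]⟩

theorem exists_xStep {I I' : Ideal A} (h : I ≤ I') : ∃ k, k ≫ xInc q I = xInc q I' := by
  haveI := mono_xInc q I
  refine exists_lift_of_forall _ _ fun T x => ?_
  exact (exists_lift_xInc_iff q _).2 (h.trans ((exists_lift_xInc_iff q _).1 ⟨x, rfl⟩))

variable (C : Set (Ideal A))

/-- The system of closed base changes of a family of ideals. -/
def xSys : (C : Set (Ideal A))ᵒᵖ ⥤ Sp (Spec A) where
  obj J := xQuot q J.unop.1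
  map φ := (exists_xStep q (leOfHom φ.unop)).choose
  map_id J := by
    haveI := mono_xInc q J.unop.1
    refine (cancel_mono (xInc q J.unop.1)).1 ?_
    rw [(exists_xStep q (leOfHom (𝟙 J).unop)).choose_spec, Category.id_comp]
  map_comp {J J' J''} φ ψ := by
    haveI := mono_xInc q J''.unop.1
    refine (cancel_mono (xInc q J''.unop.1)).1 ?_
    rw [(exists_xStep q (leOfHom (φ ≫ ψ).unop)).choose_spec, Category.assoc,
      (exists_xStep q (leOfHom ψ.unop)).choose_spec, (exists_xStep q (leOfHom φ.unop)).choose_spec]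

theorem xSys_map_inc {J J' : (C : Set (Ideal A))ᵒᵖ} (φ : J ⟶ J') :
    (xSys q C).map φ ≫ xInc q J'.unop.1 = xInc q J.unop.1 :=
  (exists_xStep q (leOfHom φ.unop)).choose_spec

/-- The cone at the supremum. -/
def xCone : Cone (xSys q C) where
  pt := xQuot q (sSup C)
  π :=
    { app := fun J => (exists_xStep q (le_sSup J.unop.2)).choose
      naturality := fun J J' φ => by
        haveI := mono_xInc q J'.unop.1
        refine (cancel_mono (xInc q J'.unop.1)).1 ?_
        refine Eq.trans ?_ (Category.assoc _ _ _).symm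
        refine Eq.trans ?_ (congrArg (_ ≫ ·) (xSys_map_inc q C φ)).symm
        refine Eq.trans (Category.assoc _ _ _) ?_
        refine Eq.trans (Category.id_comp _) ?_
        exact (exists_xStep q (le_sSup J'.unop.2)).choose_spec.trans (exists_xStep q (le_sSup J.unop.2)).choose_spec.symm }

theorem xCone_π_inc (J : (C : Set (Ideal A))ᵒᵖ) : (xCone q C).π.app J ≫ xInc q J.unop.1 = xInc q (sSup C) :=
  (exists_xStep q (le_sSup J.unop.2)).choose_spec

/-- For a chain the cone is a limit. -/
def isLimitXCone (hC : IsChain (· ≤ ·) C) (hne : C.Nonempty) : IsLimit (xCone q C) :=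
  have key : ∀ s : Cone (xSys q C), ∃ k : s.pt ⟶ xQuot q (sSup C), ∀ J,
      k ≫ (xCone q C).π.app J = s.π.app J := fun s => by
    let J₀ : C := ⟨hne.choose, hne.choose_spec⟩
    have hgJ : ∀ J : C, s.π.app (op J) ≫ xInc q J.1 = s.π.app (op J₀) ≫ xInc q J₀.1 := fun J => by
      have e : ∀ (J₁ K : C) (h : J₁ ≤ K), s.π.app (op K) ≫ xInc q K.1 = s.π.app (op J₁) ≫ xInc q J₁.1 :=
        fun J₁ K h => by
        have w := s.w (j := op K) (j' := op J₁) (homOfLE h).op
        rw [← w]
        exact ((Category.assoc _ _ _).trans (congrArg (_ ≫ ·) (exists_xStep q h).choose_spec)).symm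
      rcases hC.total J.2 J₀.2 with h | h
      · exact (e J J₀ h).symm
      · exact e J₀ J h
    haveI := mono_xInc q (sSup C)
    obtain ⟨k, hk⟩ := exists_lift_of_forall (xInc q (sSup C)) (s.π.app (op J₀) ≫ xInc q J₀.1) fun T x =>
      (exists_lift_xInc_iff q _).2 (sSup_le fun J hJ => (exists_lift_xInc_iff q _).1
        ⟨x ≫ s.π.app (op ⟨J, hJ⟩), (Category.assoc _ _ _).trans (congrArg (x ≫ ·) (hgJ ⟨J, hJ⟩))⟩)
    refine ⟨k, fun J => ?_⟩
    haveI := mono_xInc q J.unop.1
    refine (cancel_mono (xInc q J.unop.1)).1 ?_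
    refine ((Category.assoc _ _ _).trans (congrArg (k ≫ ·) (xCone_π_inc q C J))).trans ?_
    exact hk.trans (hgJ J.unop).symm
  { lift := fun s => (key s).choose
    fac := fun s J => (key s).choose_spec J
    uniq := fun s m hm => by
      let J₀ : C := ⟨hne.choose, hne.choose_spec⟩
      haveI := mono_xInc q (sSup C)
      refine (cancel_mono (xInc q (sSup C))).1 ?_
      have h1 := congrArg (· ≫ xInc q J₀.1) ((hm (op J₀)).trans ((key s).choose_spec (op J₀)).symm)
      have e := xCone_π_inc q C (op J₀)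
      exact (congrArg (m ≫ ·) e).symm.trans (((Category.assoc _ _ _).symm.trans h1).trans
        ((Category.assoc _ _ _).trans (congrArg ((key s).choose ≫ ·) e))) }

theorem qcqs_of_base (hqc : IsQuasiCompactMor q) (hqs : IsQuasiSeparatedMor q) :
    IsQuasiCompactSp X ∧ IsQuasiSeparatedSp X :=
  haveI : CompactSpace ↥(Over.mk (𝟙 (Spec A))).left := inferInstanceAs (CompactSpace ↥(Spec A))
  haveI : QuasiSeparatedSpace ↥(Over.mk (𝟙 (Spec A))).left := inferInstanceAs (QuasiSeparatedSpace ↥(Spec A))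
  ⟨hqc ((IsAlgSpace.yon_obj (Over.mk (𝟙 (Spec A))))) ASp.isQuasiCompactSp_yon (𝟙 _) (𝟙 X) q
      (IsPullback.of_horiz_isIso ⟨by rw [Category.id_comp, Category.comp_id]⟩),
    ASp.isQuasiSeparatedSp_of_mor (ASp.isQuasiSeparatedSp_yon_of_qs' _) hqs⟩

theorem exists_maximal_nonrep (hX : IsAlgSpace X) (hqc : IsQuasiCompactMor q) (hqs : IsQuasiSeparatedMor q)
    (hnr : ¬ X.obj.IsRepresentable) :
    ∃ I : Ideal A, ¬ (xQuot q I).obj.IsRepresentable ∧
      ∀ I' : Ideal A, I < I' → (xQuot q I').obj.IsRepresentable := by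
  obtain ⟨hXc, hXs⟩ := qcqs_of_base q hqc hqs
  have hbot : ¬ (xQuot q ⊥).obj.IsRepresentable := fun ⟨T, ⟨r⟩⟩ => by
    haveI := mono_xInc q (⊥ : Ideal A)
    obtain ⟨k, hk⟩ := exists_lift_of_forall (xInc q ⊥) (𝟙 X) fun T x => (exists_lift_xInc_iff q _).2 bot_le
    haveI : IsIso (xInc q ⊥) := ⟨k, (cancel_mono (xInc q ⊥)).1 (by rw [Category.assoc, hk]; simp), hk⟩
    exact hnr (ASp.isRepresentable_of_iso_yon (AlgSp.isoOfRepresentableBy r ≪≫ asIso (xInc q ⊥)))
  obtain ⟨I, -, hI⟩ := zorn_le_nonempty₀ {I : Ideal A | ¬ (xQuot q I).obj.IsRepresentable}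
    (fun C hCS hC y hy => ⟨sSup C, fun hrep => by
      haveI : Nonempty C := ⟨⟨y, hy⟩⟩
      haveI : IsDirected C (· ≤ ·) := ⟨fun a b => by
        rcases hC.total a.2 b.2 with h | h
        · exact ⟨b, h, le_refl _⟩
        · exact ⟨a, le_refl _, h⟩⟩
      have hD : ∀ J, IsAlgSpace ((xSys q C).obj J) := fun J =>
        ASp.isAlgSpace_pullback (IsAlgSpace.yon_obj _).diag hX (IsAlgSpace.yon_obj _) _ _
      have haff : ∀ J : (C : Set (Ideal A))ᵒᵖ, IsAffineMor (xInc q J.unop.1) := fun J =>
        ASp.isAffineMor_of_repWith (P := @IsClosedImmersion) (fun k (hk : IsClosedImmersion k) => inferInstance)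
          (repWith_xInc q _)
      have hq := fun J => ASp.qcqs_of_isAffineMor (hD J) hX (haff J) hXc hXs
      obtain ⟨J, hJ⟩ : ∃ J, ((xSys q C).obj J).obj.IsRepresentable := by
        obtain ⟨T, ⟨r⟩⟩ := hrep
        obtain ⟨J, P, ⟨e⟩⟩ := ASp.exists_scheme_member hD (fun J J' φ => by
          haveI := mono_xInc q J'.unop.1
          refine ASp.isAffineMor_of_repWith (P := @IsClosedImmersion)
            (fun k (hk : IsClosedImmersion k) => inferInstance) (repWith_of_comp_mono (xInc q J'.unop.1) ?_)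
          exact (xSys_map_inc q C φ).symm ▸ repWith_xInc q J.unop.1)
          (fun J => (hq J).1) (fun J => (hq J).2) (xCone q C) (isLimitXCone q C hC ⟨y, hy⟩) T
          (AlgSp.isoOfRepresentableBy r)
        exact ⟨J, ASp.isRepresentable_of_iso_yon e⟩
      exact hCS J.unop.2 hJ, fun z hz => le_sSup hz⟩) ⊥ hbot
  exact ⟨I, hI.prop, fun I' h => by_contra fun h' => hI.not_prop_of_gt h h'⟩

end Groth.Agent.ASpLimFP

end
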